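import Cfsg.Agent.Lib.Walter.NoField.Local.TorusCentralizer
import Cfsg.Agent.Lib.DicksonId.MaxCommon

/-!
# Section Z, local facts: the torus is cyclic

The centraliser in `SL(2,q)` of a square root of `-1` embeds into `K^×`, `K` algebraically closed.

Owner: helper66.
-/

set_option autoImplicit false
set_option linter.unusedSectionVars false
set_option linter.style.haveILetI false

universe u

namespace Cfsg.Agent.Lib.Walter.NoField

open Subgroup Matrix Cfsg.Agent.Lib.AutPSL Walter66
open scoped MatrixGroups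

section PSL

variable {F : Type} [Field F] [Fintype F]

local notation "SL2" => Matrix.SpecialLinearGroup (Fin 2) F
local notation "PSL2" => Matrix.ProjectiveSpecialLinearGroup (Fin 2) F
local notation "M2" => Matrix (Fin 2) (Fin 2) F

/-- A subgroup of odd order centralising an involution is cyclic, of order dividing `q ∓ 1`. -/
theorem cyclic_of_odd_centralizes (h2 : (2 : F) ≠ 0) {w : PSL2} (hw : w * w = 1) (hw1 : w ≠ 1)
    {H : Subgroup PSL2} (hH : Odd (Nat.card H)) (hc : ∀ h ∈ H, w * h = h * w) :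
    IsCyclic H ∧ (Fintype.card F % 4 = 1 → Nat.card H ∣ Fintype.card F - 1) ∧
      (Fintype.card F % 4 = 3 → Nat.card H ∣ Fintype.card F + 1) := by
  obtain ⟨W, rfl⟩ := QuotientGroup.mk_surjective w
  have hns : ∀ d : F, (W : M2) ≠ d • 1 := fun d hd => hw1 (by
    rw [← QuotientGroup.mk_one, eq_comm]
    exact (mk_eq_mk_iff 1 W).2 ⟨d, by rw [hd, Matrix.SpecialLinearGroup.coe_one]⟩)
  have hW : (W : M2) * W = -1 := by
    rw [← QuotientGroup.mk_mul, ← QuotientGroup.mk_one] at hw
    rcases mk_eq_cases hw.symm with h | h <;>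
      rw [Matrix.SpecialLinearGroup.coe_mul, Matrix.SpecialLinearGroup.coe_one] at h
    · rcases PSLTwo.Sylow.sq_eq_one h2 (g := W) (Subtype.ext (by simpa using h)) with rfl | rfl
      · exact absurd (QuotientGroup.mk_one _) hw1
      · exact absurd ((QuotientGroup.eq_one_iff _).2
          ((PSLTwo.Sylow.mem_center_iff' h2).2 (Or.inr rfl))) hw1
    · exact h
  have hWt : (W : M2).trace = 0 := GorensteinWalter.Model.tr_zero_of_sq (c := -1) (by rw [hW, neg_one_smul]) hns
  have hW0 : (W : M2) ≠ 0 := fun h => hns 0 (by rw [h, zero_smul])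
  set C := Subgroup.centralizer ({W} : Set SL2) with hC
  have hex : ∀ s : C, ∃ a b : F, ((s : SL2) : M2) = a • 1 + b • (W : M2) := fun s => by
    have hsW : ((s : SL2) : M2) * W = (W : M2) * (s : SL2) := by
      simpa using congrArg (fun x : SL2 => (x : M2)) (mem_centralizer_singleton_iff.1 s.2)
    obtain ⟨κ, hκ⟩ := GorensteinWalter.Model.prop_of_commute h2 (GorensteinWalter.Model.trace_tfree h2 ((s : SL2) : M2)) hWt hW0 (by
      simp only [GorensteinWalter.Model.tfree, sub_mul, mul_sub, Matrix.smul_mul, Matrix.mul_smul, one_mul, mul_one, hsW])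
    exact ⟨((s : SL2) : M2).trace / 2, κ, by rw [← hκ, GorensteinWalter.Model.tfree, add_sub_cancel]⟩
  choose a b hab using hex
  have huniq : ∀ {a₁ b₁ a₂ b₂ : F}, a₁ • (1 : M2) + b₁ • (W : M2) = a₂ • 1 + b₂ • (W : M2) →
      a₁ = a₂ ∧ b₁ = b₂ := by
    intro a₁ b₁ a₂ b₂ h
    have ht := congrArg Matrix.trace h
    simp only [Matrix.trace_add, Matrix.trace_smul, hWt, Matrix.trace_one, Fintype.card_fin,
      Nat.cast_ofNat, smul_eq_mul, mul_zero, add_zero] at ht
    have ha := mul_right_cancel₀ h2 ht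
    subst ha
    exact ⟨rfl, smul_left_injective F hW0 (add_left_cancel h)⟩
  obtain ⟨i, hi⟩ := IsAlgClosed.exists_eq_mul_self (-1 : AlgebraicClosure F)
  set f := algebraMap F (AlgebraicClosure F)
  have hmul : ∀ s t : C, a (s * t) = a s * a t - b s * b t ∧ b (s * t) = a s * b t + b s * a t := by
    intro s t
    refine huniq ?_
    rw [← hab, Subgroup.coe_mul, Matrix.SpecialLinearGroup.coe_mul, hab s, hab t]
    simp only [add_mul, mul_add, Matrix.smul_mul, Matrix.mul_smul, one_mul, mul_one, smul_smul, hW]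
    module
  have hone : a 1 = 1 ∧ b 1 = 0 := huniq (by simpa using (hab 1).symm)
  let φ : C →* AlgebraicClosure F :=
    { toFun := fun s => f (a s) + f (b s) * i
      map_one' := by simp [hone.1, hone.2]
      map_mul' := fun s t => by
        rw [(hmul s t).1, (hmul s t).2]
        simp only [map_sub, map_add, map_mul]
        linear_combination (f (b s) * f (b t)) * hi }
  have hnorm : ∀ s : C, a s * a s + b s * b s = 1 := by
    intro s
    have h := Matrix.SpecialLinearGroup.det_coe (s : SL2)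
    rw [hab s, Matrix.det_fin_two] at h
    have hd := Matrix.SpecialLinearGroup.det_coe W
    rw [Matrix.det_fin_two] at hd
    rw [Matrix.trace_fin_two] at hWt
    simp at h
    linear_combination h - (b s * b s) * hd - (a s * b s) * hWt
  have hφ : Function.Injective φ := by
    intro s t hst
    have hst' : f (a s) + f (b s) * i = f (a t) + f (b t) * i := hst
    have hn : ∀ s : C, (f (a s) + f (b s) * i) * (f (a s) - f (b s) * i) = 1 := fun s => by
      have h := congrArg f (hnorm s)
      simp only [map_add, map_mul, map_one] at h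
      linear_combination h + (f (b s) * f (b s)) * hi
    have hst2 : f (a s) - f (b s) * i = f (a t) - f (b t) * i := by
      have h := hn t
      rw [← hst'] at h
      exact mul_left_cancel₀ (fun h0 => by simpa [h0] using hn s) ((hn s).trans h.symm)
    have h2' : (2 : AlgebraicClosure F) ≠ 0 := by
      rw [← map_ofNat f 2]
      exact fun h => h2 (f.injective (h.trans (map_zero f).symm))
    have hi0 : i ≠ 0 := fun h => by simp [h] at hi
    have ha : a s = a t := f.injective (mul_left_cancel₀ h2' (by linear_combination hst' + hst2))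
    have hb : b s = b t := f.injective (mul_right_cancel₀ hi0 (mul_left_cancel₀ h2'
      (by linear_combination hst' - hst2)))
    refine Subtype.ext (Subtype.ext ?_)
    rw [hab s, hab t, ha, hb]
  haveI : IsCyclic C := isCyclic_of_injective_ringHom φ hφ
  have hle : H ≤ C.map (QuotientGroup.mk' _) := by
    intro h hh
    obtain ⟨s, hs, hso⟩ := GorensteinWalter.Model.exists_lift h2 (hH.of_dvd_nat (Subgroup.orderOf_dvd_natCard _ hh))
    refine ⟨s, mem_centralizer_singleton_iff.2 ?_, hs⟩
    exact (GorensteinWalter.Model.commute_lift h2 hso (t := W) (by rw [hs]; exact hc h hh)).symm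
  haveI : IsCyclic (C.map (QuotientGroup.mk' (Subgroup.center SL2))) :=
    isCyclic_of_surjective ((QuotientGroup.mk' (Subgroup.center SL2)).subgroupMap C)
      ((QuotientGroup.mk' (Subgroup.center SL2)).subgroupMap_surjective C)
  have hN : ∀ N : ℕ, (∀ s : C, φ s ^ N = 1) → Nat.card H ∣ N := fun N h => by
    obtain ⟨g, hg⟩ := IsCyclic.exists_generator (α := C)
    have hC : Nat.card C ∣ N := by
      rw [← orderOf_eq_card_of_forall_mem_zpowers hg]
      exact orderOf_dvd_of_pow_eq_one (hφ (by rw [map_pow, h, map_one]))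
    exact ((Subgroup.card_dvd_of_le hle).trans (Subgroup.card_map_dvd _ _)).trans hC
  obtain ⟨p, hp⟩ := CharP.exists F
  haveI : Fact p.Prime := ⟨CharP.char_is_prime F p⟩
  haveI : CharP (AlgebraicClosure F) p := (f.charP_iff_charP p).1 hp
  obtain ⟨n, -, hq⟩ := FiniteField.card F p
  have hfrob : ∀ x : F, f x ^ Fintype.card F = f x := fun x => by
    rw [← map_pow, FiniteField.pow_card]
  have hφq : ∀ s : C, φ s ^ Fintype.card F = f (a s) + f (b s) * i ^ Fintype.card F := fun s => by
    show (f (a s) + f (b s) * i) ^ Fintype.card F = _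
    rw [hq, add_pow_char_pow, mul_pow, ← hq, hfrob, hfrob]
  refine ⟨isCyclic_of_injective (Subgroup.inclusion hle) (Subgroup.inclusion_injective hle),
    fun h4 => hN _ fun s => ?_, fun h4 => hN _ fun s => ?_⟩
  · have hne : φ s ≠ 0 := fun h0 => by
      have h := congrArg φ (mul_inv_cancel s)
      rw [map_mul, map_one, h0, zero_mul] at h
      exact zero_ne_one h
    refine mul_right_cancel₀ hne ?_
    rw [← pow_succ, Nat.sub_add_cancel Fintype.card_pos, hφq, one_mul]
    have hiq : i ^ Fintype.card F = i := by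
      rw [show Fintype.card F = 4 * (Fintype.card F / 4) + 1 by omega, pow_succ, pow_mul,
        show i ^ 4 = 1 by linear_combination (1 - i * i) * hi, one_pow, one_mul]
    rw [hiq]
    rfl
  · rw [pow_succ, hφq]
    have hiq : i ^ Fintype.card F = -i := by
      rw [show Fintype.card F = 4 * (Fintype.card F / 4) + 3 by omega, pow_add, pow_mul,
        show i ^ 4 = 1 by linear_combination (1 - i * i) * hi, one_pow, one_mul]
      linear_combination (-i) * hi
    rw [hiq]
    show (f (a s) + f (b s) * -i) * (f (a s) + f (b s) * i) = 1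
    have h := congrArg f (hnorm s)
    simp only [map_add, map_mul, map_one] at h
    linear_combination h + (f (b s) * f (b s)) * hi

end PSL

variable {G : Type u} [Group G] [Finite G]

namespace Ctx

variable {S : Sylow 2 G} {u : G} {E E₀ : Subgroup G} (C : Ctx S u E E₀)
include C

variable {w : G} (hw : w ∈ (S : Subgroup G)) (hwE : w ∈ E₀) (hw1 : w ≠ 1)
include hw hwE hw1

theorem torus_bound (K : Type) [Field K] [Fintype K] (hK : Odd (Fintype.card K))
    (φ : ↥E₀ ≃* Matrix.ProjectiveSpecialLinearGroup (Fin 2) K) :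
    IsCyclic ↥(torus S u w) ∧
      (Fintype.card K % 4 = 1 → Nat.card ↥(torus S u w) ∣ Fintype.card K - 1) ∧
      (Fintype.card K % 4 = 3 → Nat.card ↥(torus S u w) ∣ Fintype.card K + 1) := by
  have h2 : (2 : K) ≠ 0 := PSLTwo.Sylow.two_ne_zero_of_odd (Nat.odd_iff.1 hK)
  let ψ : ↥(torus S u w) →* Matrix.ProjectiveSpecialLinearGroup (Fin 2) K :=
    φ.toMonoidHom.comp (Subgroup.inclusion (C.torus_le_E₀ hw hwE hw1))
  have hψ : Function.Injective ψ := φ.injective.comp (Subgroup.inclusion_injective _)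
  have hcard : Nat.card ψ.range = Nat.card ↥(torus S u w) :=
    (Nat.card_congr (MonoidHom.ofInjective hψ).toEquiv).symm
  obtain ⟨h1, h3, h4⟩ := cyclic_of_odd_centralizes h2 (w := φ ⟨w, hwE⟩)
    (by rw [← map_mul, show (⟨w, hwE⟩ : ↥E₀) * ⟨w, hwE⟩ = 1 from Subtype.ext (C.sq hw), map_one])
    (fun h => hw1 (congrArg Subtype.val ((φ.map_eq_one_iff).1 h)))
    (H := ψ.range) (hcard ▸ C.odd_torus hw hwE hw1) (by
      rintro _ ⟨x, rfl⟩
      show φ ⟨w, hwE⟩ * φ _ = φ _ * φ ⟨w, hwE⟩
      rw [← map_mul, ← map_mul]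
      exact congrArg φ (Subtype.ext (C.torus_comm_pair hw hwE hw1 x.2).2.symm))
  exact ⟨@isCyclic_of_injective _ _ _ _ h1 ψ.rangeRestrict fun x y h => hψ (congrArg Subtype.val h),
    hcard ▸ h3, hcard ▸ h4⟩

theorem isCyclic_torus : IsCyclic ↥(torus S u w) := by
  obtain ⟨K, _, _, hq, -, ⟨φ⟩⟩ := C.cent.2.2.2.2.1
  exact (C.torus_bound hw hwE hw1 K (Nat.odd_iff.2 (by omega)) φ).1

/-- `4 |T| = q ∓ 1`. -/
theorem card_torus (K : Type) [Field K] [Fintype K]
    (hK : Fintype.card K % 8 = 3 ∨ Fintype.card K % 8 = 5)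
    (φ : ↥E₀ ≃* Matrix.ProjectiveSpecialLinearGroup (Fin 2) K) :
    (Fintype.card K % 4 = 1 → 4 * Nat.card ↥(torus S u w) = Fintype.card K - 1) ∧
      (Fintype.card K % 4 = 3 → 4 * Nat.card ↥(torus S u w) = Fintype.card K + 1) := by
  set q := Fintype.card K with hqdef
  set n := Nat.card ↥(torus S u w) with hn
  have hodd : Odd n := C.odd_torus hw hwE hw1
  obtain ⟨-, hb1, hb3⟩ := C.torus_bound hw hwE hw1 K (Nat.odd_iff.2 (by omega)) φ
  obtain ⟨p, hp⟩ := CharP.exists K
  haveI : Fact p.Prime := ⟨CharP.char_is_prime K p⟩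
  have hp2 : p ≠ 2 := by
    rintro rfl
    obtain ⟨m, hm⟩ := FiniteField.card K 2
    rw [hqdef, hm.2] at hK
    have : 2 ∣ 2 ^ (m : ℕ) := dvd_pow_self 2 m.pos.ne'
    omega
  set z : Matrix.ProjectiveSpecialLinearGroup (Fin 2) K := φ ⟨w, hwE⟩
  have hz : orderOf z = 2 := by
    rw [MulEquiv.orderOf_eq, Subgroup.orderOf_mk]
    exact C.orderOf_mem hw hw1
  have hzp : z ^ p ≠ 1 := fun h => by
    have h1 := (Nat.prime_dvd_prime_iff_eq Nat.prime_two (Fact.out : p.Prime)).1
      (hz ▸ orderOf_dvd_of_pow_eq_one h)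
    exact hp2 h1.symm
  have key : ∀ N, (N = q - 1 ∨ N = q + 1) → N % 8 = 4 → n ∣ N → 4 * n = N := by
    intro N hN hN8 hdvd
    have hg : Nat.gcd 2 (q - 1) * (N / 2) = N := by
      rw [Nat.gcd_eq_left (show 2 ∣ q - 1 by omega)]; omega
    obtain ⟨y, hy, hzy⟩ := DicksonId.exists_torus (p := p) hzp hN hg
      (orderOf_dvd_iff_pow_eq_one.1 (by rw [hz]; omega))
    obtain ⟨x, rfl⟩ := φ.surjective y
    have hxw : (x : G) * w = w * x := by
      have h := (DicksonId.commute_of_mem_zpowers hzy).eq
      rw [← map_mul, ← map_mul] at h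
      exact congrArg Subtype.val (φ.injective h)
    have ho : orderOf ((x : G) ^ 2) = N / 4 := by
      rw [orderOf_pow, Subgroup.orderOf_coe, ← MulEquiv.orderOf_eq φ x, hy,
        Nat.gcd_eq_right (show 2 ∣ N / 2 by omega)]
      omega
    have hmem : (x : G) ^ 2 ∈ torus S u w := by
      rw [C.torus_eq hw hwE hw1]
      refine mem_inf.2 ⟨C.mem_pairCore hw hwE hw1 (mem_centralizer_pair.2
        ⟨C.mem_cent _ (C.conf.le (pow_mem x.2 2)), ((show Commute (x : G) w from hxw).pow_left 2).eq⟩)
        ?_, pow_mem x.2 2⟩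
      rw [ho]
      exact Nat.odd_iff.2 (by omega)
    have h1 : N / 4 ∣ n := ho ▸ Subgroup.orderOf_dvd_natCard _ hmem
    have h2 : n ∣ N / 4 := by
      refine Nat.Coprime.dvd_of_dvd_mul_left ?_ (show n ∣ 4 * (N / 4) by
        rwa [show 4 * (N / 4) = N by omega])
      exact (Nat.Coprime.pow_right 2 (Nat.coprime_two_right.2 hodd) : Nat.Coprime n (2 ^ 2))
    have h3 := Nat.dvd_antisymm h1 h2
    omega
  exact ⟨fun h4 => key _ (Or.inl rfl) (by omega) (hb1 h4),
    fun h4 => key _ (Or.inr rfl) (by omega) (hb3 h4)⟩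

end Ctx

end Cfsg.Agent.Lib.Walter.NoField
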