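import Cfsg.Agent.Lib.Walter.NoField.Local.Pair

/-!
# Section Z, local facts: the normaliser of `⟨u, w⟩`

`N⟨u,w⟩ = C⟨u,w⟩ ⟨σ⟩` with `σ ∈ N(S)`; it maps onto `F`.

Owner: helper66.
-/

set_option autoImplicit false
set_option linter.unusedSectionVars false
set_option linter.style.haveILetI false

universe u

namespace Cfsg.Agent.Lib.Walter.NoField

open Subgroup Walter66

variable {G : Type u} [Group G] [Finite G]

/-- `σ ∈ N(S)` cycles `u → w → u w` and fixes some `z ∈ S ∖ ⟨u, w⟩`. -/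
structure IsPairCycle (S : Sylow 2 G) (u w σ : G) : Prop where
  mem : σ ∈ normalizer ((S : Subgroup G) : Set G)
  map_u : σ * u * σ⁻¹ = w
  map_w : σ * w * σ⁻¹ = u * w
  fixed : ∃ z ∈ (S : Subgroup G), z ≠ 1 ∧ z ≠ u ∧ z ≠ w ∧ z ≠ u * w ∧ σ * z * σ⁻¹ = z
  disjoint : (zpowers σ ⊔ (S : Subgroup G)) ⊓ fieldPart S = ⊥

theorem mem_closure_pair {u w x : G} (hu : u * u = 1) (hw : w * w = 1) (hc : u * w = w * u) :
    x ∈ closure ({u, w} : Set G) ↔ x = 1 ∨ x = u ∨ x = w ∨ x = u * w := by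
  have h1 : ∀ y, u * (u * y) = y := fun y => by rw [← mul_assoc, hu, one_mul]
  have h2 : ∀ y, w * (w * y) = y := fun y => by rw [← mul_assoc, hw, one_mul]
  have h3 : ∀ y, w * (u * y) = u * (w * y) := fun y => by rw [← mul_assoc, ← hc, mul_assoc]
  refine ⟨fun hx => ?_, ?_⟩
  · induction hx using Subgroup.closure_induction with
    | mem y hy =>
      rcases hy with rfl | rfl
      exacts [Or.inr (Or.inl rfl), Or.inr (Or.inr (Or.inl rfl))]
    | one => exact Or.inl rfl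
    | mul y z _ _ iy iz =>
      rcases iy with rfl | rfl | rfl | rfl <;> rcases iz with rfl | rfl | rfl | rfl
      all_goals simp [hu, hw, hc.symm, mul_assoc, h1, h2, h3]
    | inv y _ iy =>
      rcases iy with rfl | rfl | rfl | rfl
      · exact Or.inl inv_one
      · exact Or.inr (Or.inl (inv_eq_of_mul_eq_one_right hu))
      · exact Or.inr (Or.inr (Or.inl (inv_eq_of_mul_eq_one_right hw)))
      · refine Or.inr (Or.inr (Or.inr ?_))
        rw [mul_inv_rev, inv_eq_of_mul_eq_one_right hu, inv_eq_of_mul_eq_one_right hw, hc]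
  · rintro (rfl | rfl | rfl | rfl)
    exacts [one_mem _, subset_closure (Or.inl rfl), subset_closure (Or.inr rfl),
      mul_mem (subset_closure (Or.inl rfl)) (subset_closure (Or.inr rfl))]

namespace Ctx

variable {S : Sylow 2 G} {u : G} {E E₀ : Subgroup G} (C : Ctx S u E E₀)
include C

variable {w : G} (hw : w ∈ (S : Subgroup G)) (hwE : w ∈ E₀) (hw1 : w ≠ 1)
include hw hwE hw1

theorem ne_pair : u ≠ w := fun h => C.conf.not_mem (h ▸ C.conf.le hwE)

theorem closure_pair_le : closure ({u, w} : Set G) ≤ (S : Subgroup G) := (closure_le _).2 (by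
  rintro x (rfl | rfl)
  exacts [C.mem, hw])

theorem exists_pairCycle : ∃ σ : G, IsPairCycle S u w σ := by
  obtain ⟨v, r, T, hv⟩ := C.exists_tri_at hw hwE hw1
  have hr := C.rot_mem_normalizer T hw hv
  have hu1 := C.ne_one
  obtain ⟨n, hn, hnw⟩ := C.exists_conj_of_mem hw hw1 C.mem hu1
  -- `n` moves `v` or `w v` into `S ⊓ E₀`
  obtain ⟨y, hyV, hy1, hny⟩ : ∃ y, (y = w ∨ y = v ∨ y = w * v) ∧ y ≠ 1 ∧
      (n * v * n⁻¹ = y ∨ n * (w * v) * n⁻¹ = y) := by
    obtain ⟨x, hx, hnv⟩ := C.cases_S T hw hv ((mem_normalizer_iff.1 hn v).1 hv)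
    rcases hnv with hnv | hnv
    · have hx1 : x ≠ 1 := fun h => ne_one_of_ord T.hb (conj_eq_one_iff.1 (hnv.trans h))
      exact ⟨x, hx.resolve_left hx1, hx1, Or.inl hnv⟩
    · have hx1 : x ≠ 1 := fun h => T.ne (by
        rw [h, mul_one, ← hnw] at hnv
        exact (mul_left_cancel (mul_right_cancel hnv)).symm)
      refine ⟨x, hx.resolve_left hx1, hx1, Or.inr ?_⟩
      rw [show n * (w * v) * n⁻¹ = (n * w * n⁻¹) * (n * v * n⁻¹) by group, hnw, hnv, ← mul_assoc,
        C.sq C.mem, one_mul]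
  obtain ⟨k, hkN, hku, hky⟩ : ∃ k, k ∈ normalizer ((S : Subgroup G) : Set G) ∧ k * u * k⁻¹ = u ∧
      k * y * k⁻¹ = w := by
    have hru : r * u * r⁻¹ = u := by rw [C.rot_comm_u T, mul_inv_cancel_right]
    rcases hyV with rfl | rfl | rfl
    · exact ⟨1, one_mem _, by simp, by simp⟩
    · exact ⟨r, hr, hru, T.cb⟩
    · refine ⟨r * r, mul_mem hr hr, ?_, ?_⟩
      · rw [show r * r * u * (r * r)⁻¹ = r * (r * u * r⁻¹) * r⁻¹ by group, hru, hru]
      · rw [show r * r * (w * v) * (r * r)⁻¹ = r * (r * (w * v) * r⁻¹) * r⁻¹ by group, C.rot_ab T,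
          T.cb]
  set m := k * n with hmdef
  have hm : m ∈ normalizer ((S : Subgroup G) : Set G) := mul_mem hkN hn
  have hmul : ∀ x, m * x * m⁻¹ = k * (n * x * n⁻¹) * k⁻¹ := fun x => by rw [hmdef]; group
  have hmw : m * w * m⁻¹ = u := by rw [hmul, hnw, hku]
  set σ₀ := m * r * m⁻¹
  have hc : ∀ x, σ₀ * (m * x * m⁻¹) * σ₀⁻¹ = m * (r * x * r⁻¹) * m⁻¹ := fun x => by
    simp only [σ₀]; group
  have hfix : σ₀ * (m * u * m⁻¹) * σ₀⁻¹ = m * u * m⁻¹ := by
    rw [hc, C.rot_comm_u T, mul_inv_cancel_right]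
  have hmm : ∀ x x' : G, m * (x * x') * m⁻¹ = (m * x * m⁻¹) * (m * x' * m⁻¹) := fun x x' => by group
  have hz : ∃ z ∈ (S : Subgroup G), z ≠ 1 ∧ z ≠ u ∧ z ≠ w ∧ z ≠ u * w ∧
      σ₀ * z * σ₀⁻¹ = z := by
    refine ⟨m * u * m⁻¹, (mem_normalizer_iff.1 hm u).1 C.mem, fun h => hu1 (conj_eq_one_iff.1 h),
      ?_, ?_, ?_, hfix⟩
    · intro h
      exact C.ne_pair hw hwE hw1 (mul_left_cancel (mul_right_cancel (h.trans hmw.symm)))
    all_goals intro h
    all_goals apply C.conf.not_mem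
    · rcases hny with e | e
      · have h' : m * u * m⁻¹ = m * v * m⁻¹ := by rw [h, hmul v, e, hky]
        rw [mul_left_cancel (mul_right_cancel h')]
        exact C.conf.le T.bmem
      · have h' : m * u * m⁻¹ = m * (w * v) * m⁻¹ := by rw [h, hmul (w * v), e, hky]
        rw [mul_left_cancel (mul_right_cancel h')]
        exact mul_mem (C.conf.le hwE) (C.conf.le T.bmem)
    · rcases hny with e | e
      · have h' : m * u * m⁻¹ = m * (w * v) * m⁻¹ := by rw [h, hmm, hmw, hmul v, e, hky]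
        rw [mul_left_cancel (mul_right_cancel h')]
        exact mul_mem (C.conf.le hwE) (C.conf.le T.bmem)
      · have hv2 : v = w * (w * v) := by rw [← mul_assoc, C.sq hw, one_mul]
        have h' : m * u * m⁻¹ = m * v * m⁻¹ := by
          rw [h]
          conv_rhs => rw [hv2]
          rw [hmm, hmw, hmul (w * v), e, hky]
        rw [mul_left_cancel (mul_right_cancel h')]
        exact C.conf.le T.bmem
  have hσ₀ : σ₀ ∈ normalizer ((S : Subgroup G) : Set G) := mul_mem (mul_mem hm hr) (inv_mem hm)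
  have hdis : ∀ τ, τ = σ₀ ∨ τ = σ₀ * σ₀ → (zpowers τ ⊔ (S : Subgroup G)) ⊓ fieldPart S = ⊥ := by
    intro τ hτ
    have hS : (S : Subgroup G) ≤ zpowers u ⊔ E₀ := fun p hp => by
      obtain ⟨x, hx, hpx⟩ := C.cases_S T hw hv hp
      have hxE : x ∈ E₀ := by
        rcases hx with rfl | rfl | rfl | rfl
        exacts [one_mem _, hwE, T.bmem, mul_mem hwE T.bmem]
      rcases hpx with rfl | rfl
      · exact mem_sup_right hxE
      · exact mul_mem_sup (mem_zpowers u) hxE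
    have hle : zpowers τ ⊔ (S : Subgroup G) ≤
        (zpowers u ⊔ E₀).map (MulAut.conj m).toMonoidHom := by
      have h0 : σ₀ ∈ (zpowers u ⊔ E₀).map (MulAut.conj m).toMonoidHom :=
        ⟨r, mem_sup_right T.rmem, rfl⟩
      refine sup_le (zpowers_le.2 ?_) fun p hp =>
        ⟨m⁻¹ * p * m, hS ((Subgroup.mem_normalizer_iff''.1 hm p).1 hp),
          show m * (m⁻¹ * p * m) * m⁻¹ = p by group⟩
      rcases hτ with rfl | rfl
      exacts [h0, mul_mem h0 h0]
    rw [eq_bot_iff]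
    rintro x ⟨hx, hxF⟩
    obtain ⟨y, hy, hyx⟩ := hle hx
    have hyx' : y = x := by
      have h1 : m * y * m⁻¹ = m * x * m⁻¹ := by
        rw [C.comm_normalizer hm hxF, mul_inv_cancel_right]
        exact hyx
      exact mul_left_cancel (mul_right_cancel h1)
    subst hyx'
    have hyE : y ∈ E := C.fieldPart_le hxF
    have hn' : zpowers u ≤ normalizer (E₀ : Set G) := by
      refine zpowers_le.2 (mem_normalizer_iff.2 fun e => ⟨C.conj_E₀_sylow C.mem, fun h => ?_⟩)
      have h2 := C.conj_E₀_sylow (inv_mem C.mem) h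
      simpa [mul_assoc] using h2
    rw [SetLike.mem_coe, ← SetLike.mem_coe, coe_mul_of_left_le_normalizer_right _ _ hn'] at hy
    obtain ⟨z, hz, e, he, rfl⟩ := hy
    have hzE : z ∈ zpowers u ⊓ E := ⟨hz, (E.mul_mem_cancel_right (C.conf.le he)).1 hyE⟩
    rw [C.cent.1.2.2.2.1, mem_bot] at hzE
    have h3 : z * e ∈ fieldPart S ⊓ E₀ := by
      refine mem_inf.2 ⟨hxF, ?_⟩
      rw [hzE, one_mul]
      exact he
    rwa [C.fieldPart_inf] at h3
  -- orientation
  have hwv : r * (w * v) * r⁻¹ = v := C.rot_ab T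
  obtain ⟨z, hzS, hz1, hz2, hz3, hz4, hz5⟩ := hz
  have hsq : ∀ x, σ₀ * σ₀ * x * (σ₀ * σ₀)⁻¹ = σ₀ * (σ₀ * x * σ₀⁻¹) * σ₀⁻¹ := fun x => by group
  have huu : u * (u * w) = w := by rw [← mul_assoc, C.sq C.mem, one_mul]
  rcases hny with e | e
  · have h1 : m * v * m⁻¹ = w := by rw [hmul, e, hky]
    have h2 : m * (w * v) * m⁻¹ = u * w := by rw [hmm, hmw, h1]
    have e1 : σ₀ * u * σ₀⁻¹ = u * w := by rw [← hmw, hc, T.ca, hmw, h2]
    have e2 : σ₀ * w * σ₀⁻¹ = u := by rw [← h1, hc, T.cb, hmw]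
    have e3 : σ₀ * (u * w) * σ₀⁻¹ = w := by rw [← h2, hc, hwv, h1]
    refine ⟨σ₀ * σ₀, mul_mem hσ₀ hσ₀, ?_, ?_, ⟨z, hzS, hz1, hz2, hz3, hz4, ?_⟩, hdis _ (Or.inr rfl)⟩
    · rw [hsq, e1, e3]
    · rw [hsq, e2, e1]
    · rw [hsq, hz5, hz5]
  · have h1 : m * (w * v) * m⁻¹ = w := by rw [hmul, e, hky]
    have h2 : m * v * m⁻¹ = u * w := by
      rw [show m * v * m⁻¹ = (m * w * m⁻¹)⁻¹ * (m * (w * v) * m⁻¹) by group, hmw, h1,
        C.inv_sylow C.mem]
    refine ⟨σ₀, hσ₀, ?_, ?_, ⟨z, hzS, hz1, hz2, hz3, hz4, hz5⟩, hdis _ (Or.inl rfl)⟩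
    · rw [← hmw, hc, T.ca, h1]
    · rw [← h1, hc, hwv, h2, h1]

variable {σ : G} (hσ : IsPairCycle S u w σ)

theorem pairCycle_map_uw (hσ : IsPairCycle S u w σ) : σ * (u * w) * σ⁻¹ = u := by
  rw [show σ * (u * w) * σ⁻¹ = (σ * u * σ⁻¹) * (σ * w * σ⁻¹) by group, hσ.map_u, hσ.map_w,
    ← mul_assoc, C.comm hw C.mem, mul_assoc, C.sq hw, mul_one]

theorem pairCycle_mem_normalizer (hσ : IsPairCycle S u w σ) :
    σ ∈ normalizer (closure ({u, w} : Set G) : Set G) := mem_normalizer_closure (by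
  have hu' : u ∈ closure ({u, w} : Set G) := subset_closure (Or.inl rfl)
  have hw' : w ∈ closure ({u, w} : Set G) := subset_closure (Or.inr rfl)
  rintro x (rfl | rfl)
  · rw [hσ.map_u]; exact hw'
  · rw [hσ.map_w]; exact mul_mem hu' hw')

/-- `N⟨u,w⟩ = C⟨u,w⟩ ⟨σ⟩`. -/
theorem exists_cycle_mul (hσ : IsPairCycle S u w σ) {n : G}
    (hn : n ∈ normalizer (closure ({u, w} : Set G) : Set G)) :
    ∃ (k : ℕ) (c : G), c ∈ centralizer ({u, w} : Set G) ∧ σ ^ k * n = c := by
  have hcase : ∀ x ∈ ({u, w} : Set G), x ≠ 1 →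
      n * x * n⁻¹ = u ∨ n * x * n⁻¹ = w ∨ n * x * n⁻¹ = u * w := fun x hx hx1 =>
    ((mem_closure_pair (C.sq C.mem) (C.sq hw) (C.comm C.mem hw)).1
      ((mem_normalizer_iff.1 hn x).1 (subset_closure hx))).resolve_left
      fun h => hx1 (conj_eq_one_iff.1 h)
  obtain ⟨k, hk⟩ : ∃ k : ℕ, σ ^ k * n * u * (σ ^ k * n)⁻¹ = u := by
    have e : ∀ k : ℕ, σ ^ k * n * u * (σ ^ k * n)⁻¹ = σ ^ k * (n * u * n⁻¹) * (σ ^ k)⁻¹ := fun k => by
      group
    rcases hcase u (Or.inl rfl) C.ne_one with h | h | h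
    · exact ⟨0, by simpa using h⟩
    · refine ⟨2, ?_⟩
      rw [e, h, pow_two, show σ * σ * w * (σ * σ)⁻¹ = σ * (σ * w * σ⁻¹) * σ⁻¹ by group, hσ.map_w,
        C.pairCycle_map_uw hw hwE hw1 hσ]
    · exact ⟨1, by rw [e, h, pow_one, C.pairCycle_map_uw hw hwE hw1 hσ]⟩
  refine ⟨k, _, mem_centralizer_pair.2 ⟨mul_inv_eq_iff_eq_mul.1 hk, mul_inv_eq_iff_eq_mul.1 ?_⟩, rfl⟩
  set d := σ ^ k * n
  have hd : d ∈ normalizer (closure ({u, w} : Set G) : Set G) :=
    mul_mem (pow_mem (C.pairCycle_mem_normalizer hw hwE hw1 hσ) k) hn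
  rcases (mem_closure_pair (C.sq C.mem) (C.sq hw) (C.comm C.mem hw)).1
      ((mem_normalizer_iff.1 hd w).1 (subset_closure (Or.inr rfl))) with h | h | h | h
  · exact absurd (conj_eq_one_iff.1 h) hw1
  · exact absurd (mul_left_cancel (mul_right_cancel (hk.trans h.symm))) (C.ne_pair hw hwE hw1)
  · exact h
  · have h4 : d * (u * w) * d⁻¹ = w := by
      rw [show d * (u * w) * d⁻¹ = (d * u * d⁻¹) * (d * w * d⁻¹) by group, hk, h, ← mul_assoc,
        C.sq C.mem, one_mul]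
    have h5 := IsJR.not_swap C.jr (S.isPGroup'.to_le (C.closure_pair_le hw hwE hw1)) hd
      (subset_closure (Or.inr rfl)) h h4
    exact absurd (mul_right_cancel (h5.symm.trans (one_mul w).symm)) C.ne_one

theorem pairCycle_conj_torus (hσ : IsPairCycle S u w σ) {g x : G}
    (hg : g ∈ zpowers σ ⊔ (S : Subgroup G)) (hx : x ∈ torus S u w) :
    g * x * g⁻¹ ∈ torus S u w := by
  have hle : zpowers σ ⊔ (S : Subgroup G) ≤ normalizer (torus S u w : Set G) := by
    have key : ∀ τ, τ ∈ normalizer ((S : Subgroup G) : Set G) →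
        (∀ c ∈ centralizer ({u, w} : Set G), τ * c * τ⁻¹ ∈ centralizer ({u, w} : Set G)) →
        τ ∈ normalizer (torus S u w : Set G) := by
      intro τ hτ hτc
      have h1 : (pairCore u w).map (MulAut.conj τ).toMonoidHom ≤ pairCore u w := by
        rintro _ ⟨o, ho, rfl⟩
        exact conj_mem_pairCore hτc ho
      have h2 : ((S : Subgroup G)).map (MulAut.conj τ).toMonoidHom ≤ (S : Subgroup G) := by
        rintro _ ⟨s, hs, rfl⟩
        exact (mem_normalizer_iff.1 hτ s).1 hs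
      have h3 : (torus S u w).map (MulAut.conj τ).toMonoidHom ≤ torus S u w := by
        rw [torus, map_commutator]
        exact commutator_mono h1 h2
      have he := Subgroup.eq_of_le_of_card_ge h3
        (Nat.card_congr ((torus S u w).equivMapOfInjective _ (MulAut.conj τ).injective).toEquiv).le
      refine mem_normalizer_iff.2 fun y => ⟨fun hy => h3 ⟨y, hy, rfl⟩, fun hy => ?_⟩
      rw [← he] at hy
      obtain ⟨z, hz, hzy⟩ := hy
      have : z = y := (MulAut.conj τ).injective hzy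
      exact this ▸ hz
    refine sup_le (zpowers_le.2 (key σ hσ.mem fun c hc => ?_)) fun s hs => ?_
    · obtain ⟨hcu, hcw⟩ := mem_centralizer_pair.1 hc
      have h1 : Commute (σ * c * σ⁻¹) w := by
        have := (show Commute c u from hcu).map (MulAut.conj σ).toMonoidHom
        simpa [hσ.map_u] using this
      have h2 : Commute (σ * c * σ⁻¹) (u * w) := by
        have := (show Commute c w from hcw).map (MulAut.conj σ).toMonoidHom
        simpa [hσ.map_w] using this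
      refine mem_centralizer_pair.2 ⟨?_, h1.eq⟩
      have h3 := h2.mul_right h1
      rw [mul_assoc u, C.sq hw, mul_one] at h3
      exact h3.eq
    · exact key s (le_normalizer hs) fun c hc =>
        mul_mem (mul_mem (C.sylow_le_pair hw hs) hc) (inv_mem (C.sylow_le_pair hw hs))
  exact (mem_normalizer_iff.1 (hle hg) x).1 hx

/-- `N⟨u,w⟩` maps onto `F`. -/
theorem exists_hom_fieldPart (hσ : IsPairCycle S u w σ) :
    ∃ (hF : fieldPart S ≤ normalizer (closure ({u, w} : Set G) : Set G))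
      (φ : ↥(normalizer (closure ({u, w} : Set G) : Set G)) →* ↥(fieldPart S)),
      (∀ x : ↥(fieldPart S), φ ⟨x, hF x.2⟩ = x) ∧
      ∀ n : ↥(normalizer (closure ({u, w} : Set G) : Set G)),
        (n : G) ∈ torus S u w ⊔ (zpowers σ ⊔ (S : Subgroup G)) → φ n = 1 := by
  set N := normalizer (closure ({u, w} : Set G) : Set G)
  set K := zpowers σ ⊔ (S : Subgroup G) with hK
  set M := torus S u w ⊔ K with hM
  have hCN : centralizer ({u, w} : Set G) ≤ N :=
    (centralizer_closure ({u, w} : Set G)).ge.trans (centralizer_le_normalizer _)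
  have hF : fieldPart S ≤ N :=
    (C.fieldPart_le_pairCore hw hwE hw1).trans ((pairCore_le u w).trans hCN)
  have hKN : K ≤ N :=
    sup_le (zpowers_le.2 (C.pairCycle_mem_normalizer hw hwE hw1 hσ)) ((C.sylow_le_pair hw).trans hCN)
  have hMN : M ≤ N :=
    sup_le ((C.torus_le hw hwE hw1).trans ((pairCore_le u w).trans hCN)) hKN
  have hFM : fieldPart S ≤ normalizer (M : Set G) := by
    intro f hf
    have key : ∀ g ∈ fieldPart S, ∀ x ∈ M, g * x * g⁻¹ ∈ M := by
      intro g hg x hx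
      have hle : M.map (MulAut.conj g).toMonoidHom ≤ M := by
        rw [hM, hK, Subgroup.map_sup, Subgroup.map_sup]
        refine sup_le ?_ (sup_le ?_ ?_)
        · rintro _ ⟨y, hy, rfl⟩
          exact mem_sup_left (C.conj_torus_fieldPart hw hwE hw1 hg hy)
        · rw [MonoidHom.map_zpowers, zpowers_le]
          show g * σ * g⁻¹ ∈ _
          rw [← C.comm_normalizer hσ.mem hg, mul_inv_cancel_right]
          exact mem_sup_right (mem_sup_left (mem_zpowers σ))
        · rintro _ ⟨y, hy, rfl⟩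
          show g * y * g⁻¹ ∈ _
          rw [comm_fieldPart_sylow hg hy, mul_inv_cancel_right]
          exact mem_sup_right (mem_sup_right hy)
      exact hle ⟨x, hx, rfl⟩
    refine mem_normalizer_iff.2 fun x => ⟨key f hf x, fun hx => ?_⟩
    have := key f⁻¹ (inv_mem hf) _ hx
    simpa [mul_assoc] using this
  have hdec : ∀ n ∈ N, ∃ x ∈ fieldPart S, ∃ y ∈ M, n = y * x := by
    intro n hn
    obtain ⟨k, c, hc, hkc⟩ := C.exists_cycle_mul hw hwE hw1 hσ hn
    obtain ⟨o, ho, s, hs, rfl⟩ := C.exists_mul_pairCore hw hwE hw1 hc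
    obtain ⟨t, ht, f, hf, rfl⟩ := C.exists_mul_torus hw hwE hw1 ho
    refine ⟨f, hf, (σ ^ k)⁻¹ * t * s, mul_mem (mul_mem
      (inv_mem (mem_sup_right (mem_sup_left (pow_mem (mem_zpowers σ) k)))) (mem_sup_left ht))
      (mem_sup_right (mem_sup_right hs)), ?_⟩
    calc n = (σ ^ k)⁻¹ * (σ ^ k * n) := by group
      _ = (σ ^ k)⁻¹ * t * (f * s) := by rw [hkc]; group
      _ = (σ ^ k)⁻¹ * t * s * f := by rw [comm_fieldPart_sylow hf hs]; group
  have hNM : N ≤ normalizer (M : Set G) := fun n hn => by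
    obtain ⟨x, hx, y, hy, rfl⟩ := hdec n hn
    exact mul_mem (le_normalizer hy) (hFM hx)
  have hinf : ∀ x ∈ M, x ∈ fieldPart S → x = 1 := by
    intro x hx hxF
    have hKT : K ≤ normalizer (torus S u w : Set G) := fun g hg =>
      mem_normalizer_iff.2 fun y => ⟨C.pairCycle_conj_torus hw hwE hw1 hσ hg, fun hy => by
        have := C.pairCycle_conj_torus hw hwE hw1 hσ (inv_mem hg) hy
        simpa [mul_assoc] using this⟩
    rw [hM, sup_comm, ← SetLike.mem_coe, coe_mul_of_left_le_normalizer_right _ _ hKT] at hx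
    obtain ⟨k, hk, t, ht, rfl⟩ := hx
    have hkO : k ∈ pairCore u w :=
      ((pairCore u w).mul_mem_cancel_right (C.torus_le hw hwE hw1 ht)).1
        (C.fieldPart_le_pairCore hw hwE hw1 hxF)
    have hkN : k ∈ normalizer ((S : Subgroup G) : Set G) :=
      (sup_le (zpowers_le.2 hσ.mem) le_normalizer : K ≤ _) hk
    have hkF : k ∈ fieldPart S := C.mem_fieldPart
      (C.centralizes_of_normalizes hw hwE hw1 hkN (pairCore_le u w hkO))
      (odd_orderOf_mem (odd_pairCore u w) hkO)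
    have hk1 : k ∈ K ⊓ fieldPart S := mem_inf.2 ⟨hk, hkF⟩
    rw [hσ.disjoint, mem_bot] at hk1
    subst hk1
    simp only [one_mul] at hxF ⊢
    have ht1 : t ∈ torus S u w ⊓ fieldPart S := mem_inf.2 ⟨ht, hxF⟩
    rwa [C.torus_inf_fieldPart hw hwE hw1, mem_bot] at ht1
  haveI hnorm : (M.subgroupOf N).Normal := (Subgroup.normal_subgroupOf_iff_le_normalizer hMN).2 hNM
  let h : ↥(fieldPart S) →* ↥N ⧸ M.subgroupOf N :=
    (QuotientGroup.mk' (M.subgroupOf N)).comp (Subgroup.inclusion hF)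
  have hb : Function.Bijective h := by
    constructor
    · refine (injective_iff_map_eq_one h).2 fun x hx => Subtype.ext (hinf x ?_ x.2)
      exact mem_subgroupOf.1 ((QuotientGroup.eq_one_iff (Subgroup.inclusion hF x)).1 hx)
    · intro q
      obtain ⟨⟨n, hn⟩, rfl⟩ := QuotientGroup.mk_surjective q
      obtain ⟨x, hx, y, hy, rfl⟩ := hdec n hn
      refine ⟨⟨x, hx⟩, ?_⟩
      have e : (⟨y * x, hn⟩ : ↥N) = (⟨y, hMN hy⟩ : ↥N) * Subgroup.inclusion hF ⟨x, hx⟩ := rfl
      show ((Subgroup.inclusion hF ⟨x, hx⟩ : ↥N) : ↥N ⧸ M.subgroupOf N) = _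
      rw [e, QuotientGroup.mk_mul, (QuotientGroup.eq_one_iff (⟨y, hMN hy⟩ : ↥N)).2 (mem_subgroupOf.2 hy), one_mul]
  refine ⟨hF, (MulEquiv.ofBijective h hb).symm.toMonoidHom.comp (QuotientGroup.mk' _),
    fun x => (MulEquiv.ofBijective h hb).symm_apply_eq.2 rfl, fun n hn => ?_⟩
  show (MulEquiv.ofBijective h hb).symm (n : ↥N ⧸ M.subgroupOf N) = 1
  rw [(QuotientGroup.eq_one_iff n).2 (mem_subgroupOf.2 hn), map_one]

end Ctx

end Cfsg.Agent.Lib.Walter.NoField
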