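import Cfsg.Agent.Lib.Walter.NoField.Local.NormSylow

/-!
# Section Z, local facts: `|N(S) : C(S)| = 21`

Owner: helper66.
-/

set_option autoImplicit false
set_option linter.unusedSectionVars false
set_option linter.style.haveILetI false

universe u

namespace Cfsg.Agent.Lib.Walter.NoField

open Subgroup Walter66

variable {G : Type u} [Group G] [Finite G]

namespace Ctx

variable {S : Sylow 2 G} {u : G} {E E₀ : Subgroup G} (C : Ctx S u E E₀)
include C

/-- `N(S)` has seven cosets of `N(S) ⊓ C(u)`. -/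
theorem relIndex_centralizer_u :
    (centralizer ({u} : Set G)).relIndex (normalizer ((S : Subgroup G) : Set G)) = 7 := by
  set N := normalizer ((S : Subgroup G) : Set G)
  set H := (centralizer ({u} : Set G)).subgroupOf N with hH
  let f : ↥N → {x : G // x ∈ ((S : Subgroup G) : Set G) \ {1}} := fun n =>
    ⟨(n : G) * u * (n : G)⁻¹, (mem_normalizer_iff.1 n.2 u).1 C.mem, fun h =>
      C.ne_one (conj_eq_one_iff.1 h)⟩
  have hwd : ∀ n m : ↥N, n⁻¹ * m ∈ H ↔ f n = f m := by
    intro n m
    rw [hH, mem_subgroupOf, mem_centralizer_singleton_iff, Subtype.ext_iff]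
    show (n : G)⁻¹ * (m : G) * u = u * ((n : G)⁻¹ * (m : G)) ↔ (n : G) * u * (n : G)⁻¹ = m * u * (m : G)⁻¹
    constructor
    · intro h
      calc (n : G) * u * (n : G)⁻¹ = (n : G) * (u * ((n : G)⁻¹ * (m : G))) * (m : G)⁻¹ := by group
        _ = (n : G) * ((n : G)⁻¹ * (m : G) * u) * (m : G)⁻¹ := by rw [h]
        _ = _ := by group
    · intro h
      calc (n : G)⁻¹ * (m : G) * u = (n : G)⁻¹ * ((m : G) * u * (m : G)⁻¹) * m := by group
        _ = (n : G)⁻¹ * ((n : G) * u * (n : G)⁻¹) * m := by rw [h]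
        _ = _ := by group
  let g : ↥N ⧸ H → {x : G // x ∈ ((S : Subgroup G) : Set G) \ {1}} :=
    Quotient.lift f fun n m h => (hwd n m).1 (QuotientGroup.leftRel_apply.1 h)
  have hg : Function.Bijective g := by
    constructor
    · intro a b
      refine QuotientGroup.induction_on a fun n => QuotientGroup.induction_on b fun m h => ?_
      exact QuotientGroup.eq.2 ((hwd n m).2 h)
    · rintro ⟨x, hx, hx1⟩
      obtain ⟨n, hn, he⟩ := C.exists_conj_of_mem C.mem C.ne_one hx hx1
      exact ⟨QuotientGroup.mk (⟨n, hn⟩ : ↥N), Subtype.ext he⟩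
  show Nat.card (↥N ⧸ H) = 7
  rw [Nat.card_congr (Equiv.ofBijective g hg)]
  show Nat.card ↥(((S : Subgroup G) : Set G) \ {1}) = 7
  rw [Nat.card_coe_set_eq, Set.ncard_sdiff_singleton_of_mem (one_mem _), ← Nat.card_coe_set_eq]
  show Nat.card ↥(S : Subgroup G) - 1 = 7
  rw [C.jr.card_sylow S]

/-- `N(S) ⊓ C(u)` has three cosets of `C(S)`. -/
theorem relIndex_centralizer_inf : (centralizer ((S : Subgroup G) : Set G)).relIndex
    (normalizer ((S : Subgroup G) : Set G) ⊓ centralizer ({u} : Set G)) = 3 := by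
  obtain ⟨a, b, r, T, ha, hb⟩ := C.exists_tri
  set M := normalizer ((S : Subgroup G) : Set G) ⊓ centralizer ({u} : Set G)
  have hr : r ∈ M :=
    ⟨C.rot_mem_normalizer T ha hb, mem_centralizer_singleton_iff.2 (C.rot_comm_u T)⟩
  set Z := (centralizer ((S : Subgroup G) : Set G)).subgroupOf M with hZ
  have h3 : r * r * r ∈ centralizer ((S : Subgroup G) : Set G) := mem_centralizer_iff.2 fun p hp => by
    refine (mul_inv_eq_iff_eq_mul.1 ?_).symm
    calc r * r * r * p * (r * r * r)⁻¹ = r * (r * (r * p * r⁻¹) * r⁻¹) * r⁻¹ := by group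
      _ = p := C.rot_cube T ha hb hp
  have hmod : ∀ k : ℕ, (r ^ (k % 3))⁻¹ * r ^ k ∈ centralizer ((S : Subgroup G) : Set G) := fun k => by
    nth_rw 2 [← Nat.mod_add_div k 3]
    rw [pow_add, inv_mul_cancel_left, pow_mul]
    refine pow_mem ?_ _
    rwa [show r ^ 3 = r * r * r by rw [pow_succ, pow_two]]
  have hne : ∀ j : ℕ, j < 3 → r ^ j ∈ centralizer ((S : Subgroup G) : Set G) → j = 0 := by
    intro j hj h
    have he : r ^ j * a * (r ^ j)⁻¹ = a := by
      rw [← mem_centralizer_iff.1 h a ha, mul_inv_cancel_right]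
    rcases (show j = 0 ∨ j = 1 ∨ j = 2 by omega) with rfl | rfl | rfl
    · rfl
    · rw [pow_one, T.ca, mul_eq_left] at he
      exact absurd he (ne_one_of_ord T.hb)
    · rw [pow_two, show r * r * a * (r * r)⁻¹ = r * (r * a * r⁻¹) * r⁻¹ by group, T.ca,
        C.rot_ab T] at he
      exact absurd he.symm T.ne
  let g : Fin 3 → ↥M ⧸ Z := fun k => QuotientGroup.mk (⟨r, hr⟩ ^ (k : ℕ) : ↥M)
  have hg : Function.Bijective g := by
    constructor
    · intro i j h
      have h' := mem_subgroupOf.1 (QuotientGroup.eq.1 h)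
      simp only [Subgroup.coe_mul, InvMemClass.coe_inv, SubmonoidClass.coe_pow] at h'
      rcases le_total (i : ℕ) (j : ℕ) with hij | hij
      · rw [show (j : ℕ) = i + (j - i) by omega, pow_add, inv_mul_cancel_left] at h'
        have := hne _ (by omega) h'
        omega
      · have h'' := inv_mem h'
        rw [mul_inv_rev, inv_inv, show (i : ℕ) = j + (i - j) by omega, pow_add,
          inv_mul_cancel_left] at h''
        have := hne _ (by omega) h''
        omega
    · intro q
      refine QuotientGroup.induction_on q fun n => ?_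
      obtain ⟨k, c, hc, hkc⟩ := C.exists_rot_mul T ha hb n.2.1
        (mem_centralizer_singleton_iff.1 n.2.2)
      refine ⟨⟨2 * k % 3, Nat.mod_lt _ (by omega)⟩, QuotientGroup.eq.2 (mem_subgroupOf.2 ?_)⟩
      simp only [Subgroup.coe_mul, InvMemClass.coe_inv, SubmonoidClass.coe_pow]
      have h1 := hmod (3 * k)
      have h2 := hmod (2 * k)
      rw [Nat.mul_mod_right, pow_zero, inv_one, one_mul] at h1
      have e : (r ^ (2 * k % 3))⁻¹ * (n : G) =
          ((r ^ (2 * k % 3))⁻¹ * r ^ (2 * k)) * (r ^ (3 * k))⁻¹ * c := by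
        rw [← hkc, show 3 * k = 2 * k + k by omega, pow_add r (2 * k) k, mul_inv_rev,
          ← (show Commute (r ^ (2 * k))⁻¹ (r ^ k)⁻¹ from (Commute.pow_pow_self r _ _).inv_inv).eq]
        group
      rw [e]
      exact mul_mem (mul_mem h2 (inv_mem h1)) hc
  show Nat.card (↥M ⧸ Z) = 3
  rw [← Nat.card_congr (Equiv.ofBijective g hg), Nat.card_eq_fintype_card, Fintype.card_fin]

/-- `|N(S) : C(S)| = 21`. -/
theorem relIndex_centralizer : (centralizer ((S : Subgroup G) : Set G)).relIndex
    (normalizer ((S : Subgroup G) : Set G)) = 21 := by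
  have hle : centralizer ((S : Subgroup G) : Set G) ≤
      normalizer ((S : Subgroup G) : Set G) ⊓ centralizer ({u} : Set G) :=
    le_inf (centralizer_le_normalizer _)
      (centralizer_le (Set.singleton_subset_iff.2 (C.mem : u ∈ ((S : Subgroup G) : Set G))))
  rw [← relIndex_mul_relIndex _ _ _ hle inf_le_left, C.relIndex_centralizer_inf,
    inf_comm, inf_relIndex_right, C.relIndex_centralizer_u]

end Ctx

end Cfsg.Agent.Lib.Walter.NoField
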