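import Cfsg.Agent.Lib.Walter.NoField.Local.Setup
import Cfsg.Agent.Lib.AutPSL.Out

/-!
# Section Z, local facts: the group of field automorphisms

`C(S) = S × F`, `E = E₀ F`, `F` is cyclic of order dividing `f` (`q = p ^ f`).

Owner: helper66.
-/

set_option autoImplicit false
set_option linter.unusedSectionVars false
set_option linter.style.haveILetI false

universe u

namespace Cfsg.Agent.Lib.Walter.NoField

open Subgroup Walter66 Cfsg.Agent.Lib.AutPSL Cfsg.Agent.Lib.GorensteinWalter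
open scoped MatrixGroups

variable {G : Type u} [Group G] [Finite G]

/-- The core is invariant under automorphisms preserving the subgroup. -/
theorem conj_mem_coreIn {H : Subgroup G} {n : G} (h : ∀ y ∈ H, n * y * n⁻¹ ∈ H) {x : G}
    (hx : x ∈ Balance.coreIn 2 H) : n * x * n⁻¹ ∈ Balance.coreIn 2 H := by
  have he : H.map (MulAut.conj n).toMonoidHom = H := by
    refine Subgroup.eq_of_le_of_card_ge ?_
      (Nat.card_congr (H.equivMapOfInjective _ (MulAut.conj n).injective).toEquiv).le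
    rintro _ ⟨y, hy, rfl⟩
    exact h y hy
  have h1 : n * x * n⁻¹ ∈ (Balance.coreIn 2 H).map (MulAut.conj n).toMonoidHom := ⟨x, hx, rfl⟩
  rwa [Balance.map_coreIn, he] at h1

theorem conj_mem_centralizer_of_mem_normalizer {Q : Subgroup G} {n : G}
    (hn : n ∈ normalizer (Q : Set G)) {y : G} (hy : y ∈ centralizer (Q : Set G)) :
    n * y * n⁻¹ ∈ centralizer (Q : Set G) := by
  refine mem_centralizer_iff.2 fun q hq => ?_
  have h := mem_centralizer_iff.1 hy _ (((Subgroup.mem_normalizer_iff''.1 hn q).1 hq))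
  calc q * (n * y * n⁻¹) = n * (n⁻¹ * q * n * y) * n⁻¹ := by group
    _ = n * (y * (n⁻¹ * q * n)) * n⁻¹ := by rw [h]
    _ = _ := by group

theorem odd_fieldPart (S : Sylow 2 G) : Odd (Nat.card (fieldPart S)) := JRBal.odd_coreIn _

theorem fieldPart_le_centralizer (S : Sylow 2 G) :
    fieldPart S ≤ centralizer ((S : Subgroup G) : Set G) :=
  Balance.coreIn_le _

theorem comm_fieldPart_sylow {S : Sylow 2 G} {x s : G} (hx : x ∈ fieldPart S)
    (hs : s ∈ (S : Subgroup G)) : x * s = s * x :=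
  (mem_centralizer_iff.1 (fieldPart_le_centralizer S hx) s hs).symm

theorem odd_orderOf_mem {H : Subgroup G} (hH : Odd (Nat.card H)) {x : G} (hx : x ∈ H) :
    Odd (orderOf x) :=
  hH.of_dvd_nat (Subgroup.orderOf_dvd_natCard _ hx)

theorem conj_mem_fieldPart {S : Sylow 2 G} {n x : G}
    (hn : n ∈ normalizer ((S : Subgroup G) : Set G)) (hx : x ∈ fieldPart S) :
    n * x * n⁻¹ ∈ fieldPart S :=
  conj_mem_coreIn (fun _ hy => conj_mem_centralizer_of_mem_normalizer hn hy) hx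

/-- An element fixing the generators of a subgroup up to membership normalises it. -/
theorem mem_normalizer_closure {s : Set G} {d : G} (h : ∀ x ∈ s, d * x * d⁻¹ ∈ closure s) :
    d ∈ normalizer (closure s : Set G) := by
  have hle : (closure s).map (MulAut.conj d).toMonoidHom ≤ closure s := by
    rw [MonoidHom.map_closure, closure_le]
    rintro _ ⟨x, hx, rfl⟩
    exact h x hx
  have he := Subgroup.eq_of_le_of_card_ge hle
    (Nat.card_congr ((closure s).equivMapOfInjective _ (MulAut.conj d).injective).toEquiv).le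
  refine mem_normalizer_iff.2 fun x => ⟨fun hx => hle ⟨x, hx, rfl⟩, fun hx => ?_⟩
  rw [← he] at hx
  obtain ⟨y, hy, hye⟩ := hx
  have : y = x := (MulAut.conj d).injective hye
  exact this ▸ hy

namespace Ctx

variable {S : Sylow 2 G} {u : G} {E E₀ : Subgroup G} (C : Ctx S u E E₀)
include C

theorem exists_mul_fieldPart {c : G} (hc : c ∈ centralizer ((S : Subgroup G) : Set G)) :
    ∃ f ∈ fieldPart S, ∃ s ∈ (S : Subgroup G), c = f * s :=
  JRBal.exists_mul_of_centralizes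
    (fun s hs => mem_centralizer_iff.2 fun t ht => C.comm ht hs)
    (fun _ hn _ s hs => (mem_centralizer_iff.1 hn s hs).symm) hc

theorem mem_fieldPart {x : G} (hx : x ∈ centralizer ((S : Subgroup G) : Set G))
    (ho : Odd (orderOf x)) : x ∈ fieldPart S := by
  obtain ⟨f, hf, s, hs, rfl⟩ := C.exists_mul_fieldPart hx
  obtain ⟨n, hn⟩ := ho
  have h1 := pow_orderOf_eq_one (f * s)
  rw [(show Commute f s from comm_fieldPart_sylow hf hs).mul_pow, hn, pow_succ s, pow_mul s,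
    pow_two, C.sq hs, one_pow, one_mul] at h1
  have hs' : s = (f ^ (2 * n + 1))⁻¹ := eq_inv_of_mul_eq_one_right h1
  exact mul_mem hf (hs' ▸ inv_mem (pow_mem hf _))

theorem comm_u {x : G} (hx : x ∈ fieldPart S) : x * u = u * x := comm_fieldPart_sylow hx C.mem

theorem fieldPart_le : fieldPart S ≤ E := fun x hx =>
  C.conf.odd_mem (C.comm_u hx) (odd_orderOf_mem (odd_fieldPart S) hx)

theorem fieldPart_inf : fieldPart S ⊓ E₀ = ⊥ := by
  obtain ⟨a, b, r, T, ha, hb⟩ := C.exists_tri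
  rw [eq_bot_iff]
  rintro x ⟨hx, hx0⟩
  refine mem_bot.2 (JRBal.eq_one_of_sq_odd (odd_fieldPart S) hx ?_)
  rcases T.cent₀ x hx0 (comm_fieldPart_sylow hx ha) (comm_fieldPart_sylow hx hb) with
    rfl | rfl | rfl | rfl
  exacts [one_mul 1, C.sq ha, C.sq hb, C.sq (mul_mem ha hb)]

/-- The four-groups of `E₀` are conjugate in `E₀`. -/
theorem exists_conj_four {a b r : G} (T : Tri E E₀ a b r) {Q : Subgroup G} (hQ : IsPGroup 2 Q)
    (hle : Q ≤ E₀) : ∃ h ∈ E₀, ∀ y ∈ Q,
      h * y * h⁻¹ = 1 ∨ h * y * h⁻¹ = a ∨ h * y * h⁻¹ = b ∨ h * y * h⁻¹ = a * b := by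
  haveI : Fact (Nat.Prime 2) := ⟨Nat.prime_two⟩
  have hV : IsPGroup 2 (closure ({a, b} : Set G)) := closure_pgroup
    (by
      rintro x (rfl | rfl)
      exacts [sq_of_ord T.ha, sq_of_ord T.hb])
    (by
      rintro x (rfl | rfl) y (rfl | rfl)
      exacts [rfl, T.comm, T.comm.symm, rfl])
  have hVle : closure ({a, b} : Set G) ≤ E₀ := (closure_le _).2 (by
    rintro x (rfl | rfl)
    exacts [T.amem, T.bmem])
  obtain ⟨P₀, hP₀⟩ := (hV.comap_of_injective E₀.subtype Subtype.val_injective).exists_le_sylow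
  obtain ⟨P₁, hP₁⟩ := (hQ.comap_of_injective E₀.subtype Subtype.val_injective).exists_le_sylow
  obtain ⟨h, hh⟩ := MulAction.exists_smul_eq E₀ P₁ P₀
  refine ⟨h, h.2, fun y hy => ?_⟩
  have hp := P₀.isPGroup'.map E₀.subtype
  have hA : (h : G) * y * (h : G)⁻¹ ∈ (P₀ : Subgroup E₀).map E₀.subtype := by
    refine ⟨h * ⟨y, hle hy⟩ * h⁻¹, ?_, rfl⟩
    rw [← hh, Sylow.coe_subgroup_smul]
    exact Subgroup.smul_mem_pointwise_smul (a := MulAut.conj h) (⟨y, hle hy⟩ : E₀) _ (hP₁ hy)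
  have haP : a ∈ (P₀ : Subgroup E₀).map E₀.subtype :=
    ⟨⟨a, T.amem⟩, hP₀ (subset_closure (Or.inl rfl) : a ∈ closure ({a, b} : Set G)), rfl⟩
  have hbP : b ∈ (P₀ : Subgroup E₀).map E₀.subtype :=
    ⟨⟨b, T.bmem⟩, hP₀ (subset_closure (Or.inr rfl) : b ∈ closure ({a, b} : Set G)), rfl⟩
  obtain ⟨z, hz, hze⟩ := hA
  refine T.cent _ (C.conf.le (hze ▸ z.2)) ?_ (IsJR.comm_pgroup C.jr hp (hze ▸ mem_map_of_mem _ hz) haP)
    (IsJR.comm_pgroup C.jr hp (hze ▸ mem_map_of_mem _ hz) hbP)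
  obtain ⟨k, hk⟩ := hp ⟨_, hze ▸ mem_map_of_mem _ hz⟩
  exact ⟨k, congrArg Subtype.val hk⟩

/-- `E = E₀ F`. -/
theorem exists_mul {e : G} (he : e ∈ E) : ∃ h ∈ E₀, ∃ f ∈ fieldPart S, e = h * f := by
  obtain ⟨a, b, r, T, ha, hb⟩ := C.exists_tri
  set V := closure ({a, b} : Set G) with hVdef
  have hVle : V ≤ E₀ := (closure_le _).2 (by
    rintro x (rfl | rfl)
    exacts [T.amem, T.bmem])
  have hVS : V ≤ (S : Subgroup G) := (closure_le _).2 (by
    rintro x (rfl | rfl)
    exacts [ha, hb])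
  have haV : a ∈ V := subset_closure (Or.inl rfl)
  have hbV : b ∈ V := subset_closure (Or.inr rfl)
  have hVp : IsPGroup 2 V := S.isPGroup'.to_le hVS
  obtain ⟨h, hh, hcases⟩ := C.exists_conj_four T
    (hVp.map (MulAut.conj e).toMonoidHom)
    (Subgroup.map_le_iff_le_comap.2 fun x hx => C.conf.conj₀ e he x (hVle hx))
  -- an element `d` of `E₀ e` centralising `a` and fixing the four-group
  obtain ⟨d, ⟨h', hh', rfl⟩, hd1, hd2⟩ : ∃ d, (∃ h' ∈ E₀, d = h' * e) ∧ d * a * d⁻¹ = a ∧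
      (d * b * d⁻¹ = b ∨ d * b * d⁻¹ = a * b) := by
    have hconj : ∀ x : G, h * e * x * (h * e)⁻¹ = h * (e * x * e⁻¹) * h⁻¹ := fun x => by group
    have h1 := hcases _ (mem_map_of_mem (MulAut.conj e).toMonoidHom haV)
    have h2 := hcases _ (mem_map_of_mem (MulAut.conj e).toMonoidHom hbV)
    simp only [MulEquiv.toMonoidHom_eq_coe, MonoidHom.coe_coe, MulAut.conj_apply, ← hconj] at h1 h2
    have hinj : Function.Injective (fun x => h * e * x * (h * e)⁻¹) := fun x y hxy =>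
      mul_left_cancel (mul_right_cancel hxy)
    have h1' : h * e * a * (h * e)⁻¹ ≠ 1 := fun h0 =>
      ne_one_of_ord T.ha (hinj (h0.trans (by group)))
    have h2' : h * e * b * (h * e)⁻¹ ≠ 1 := fun h0 =>
      ne_one_of_ord T.hb (hinj (h0.trans (by group)))
    have hne : h * e * a * (h * e)⁻¹ ≠ h * e * b * (h * e)⁻¹ := fun h0 => T.ne (hinj h0)
    have hrab : r * (a * b) * r⁻¹ = b := by
      rw [show r * (a * b) * r⁻¹ = (r * a * r⁻¹) * (r * b * r⁻¹) by group, T.ca, T.cb, T.comm,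
        mul_assoc, sq_of_ord T.ha, mul_one]
    obtain ⟨r', hr', hfix⟩ : ∃ r' ∈ E₀, r' * (h * e * a * (h * e)⁻¹) * r'⁻¹ = a ∧
        ∀ y, (y = a ∨ y = b ∨ y = a * b) → r' * y * r'⁻¹ = a ∨ r' * y * r'⁻¹ = b ∨
          r' * y * r'⁻¹ = a * b := by
      rcases h1.resolve_left h1' with h1 | h1 | h1 <;> rw [h1]
      · exact ⟨1, one_mem _, by simp, fun y hy => by simpa using hy⟩
      · refine ⟨r, T.rmem, T.cb, ?_⟩
        rintro y (rfl | rfl | rfl)
        exacts [Or.inr (Or.inr T.ca), Or.inl T.cb, Or.inr (Or.inl hrab)]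
      · refine ⟨r * r, mul_mem T.rmem T.rmem, ?_, ?_⟩
        · rw [show r * r * (a * b) * (r * r)⁻¹ = r * (r * (a * b) * r⁻¹) * r⁻¹ by group, hrab, T.cb]
        · have hsq : ∀ y, r * r * y * (r * r)⁻¹ = r * (r * y * r⁻¹) * r⁻¹ := fun y => by group
          rintro y (rfl | rfl | rfl)
          · exact Or.inr (Or.inl (by rw [hsq, T.ca, hrab]))
          · exact Or.inr (Or.inr (by rw [hsq, T.cb, T.ca]))
          · exact Or.inl (by rw [hsq, hrab, T.cb])
    have hc' : ∀ x, r' * (h * e) * x * (r' * (h * e))⁻¹ = r' * (h * e * x * (h * e)⁻¹) * r'⁻¹ :=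
      fun x => by group
    refine ⟨r' * (h * e), ⟨r' * h, mul_mem hr' hh, by group⟩, by rw [hc']; exact hfix.1, ?_⟩
    rw [hc']
    rcases hfix.2 _ (h2.resolve_left h2') with h3 | h3 | h3
    · exact absurd (mul_left_cancel (mul_right_cancel (hfix.1.trans h3.symm))) hne
    · exact Or.inl h3
    · exact Or.inr h3
  have hdE : h' * e ∈ E := mul_mem (C.conf.le hh') he
  have hdb : h' * e * b * (h' * e)⁻¹ = b := by
    refine hd2.resolve_right fun h3 => ne_one_of_ord T.ha ?_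
    have hn : h' * e ∈ normalizer (V : Set G) := mem_normalizer_closure (by
      rintro x (rfl | rfl)
      · rw [hd1]; exact haV
      · rw [h3]; exact mul_mem haV hbV)
    have h4 : h' * e * (a * b) * (h' * e)⁻¹ = b := by
      rw [show h' * e * (a * b) * (h' * e)⁻¹ =
        (h' * e * a * (h' * e)⁻¹) * (h' * e * b * (h' * e)⁻¹) by group, hd1, h3, ← mul_assoc,
        sq_of_ord T.ha, one_mul]
    have h5 := IsJR.not_swap C.jr hVp hn hbV h3 h4
    exact mul_right_cancel (h5.symm.trans (one_mul b).symm)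
  have hdC : h' * e ∈ centralizer ((S : Subgroup G) : Set G) :=
    C.mem_centralizer_of T ha hb (C.mem_cent _ hdE) (mul_inv_eq_iff_eq_mul.1 hd1)
      (mul_inv_eq_iff_eq_mul.1 hdb)
  obtain ⟨f, hf, s, hs, hfs⟩ := C.exists_mul_fieldPart hdC
  have hsE : s ∈ E := by
    have : s = f⁻¹ * (h' * e) := by rw [hfs]; group
    rw [this]
    exact mul_mem (inv_mem (C.fieldPart_le hf)) hdE
  refine ⟨h'⁻¹ * s, mul_mem (inv_mem hh') (C.mem_E₀_of_mem_E hs hsE), f, hf, ?_⟩
  rw [mul_assoc, ← comm_fieldPart_sylow hf hs, ← hfs]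
  group

theorem sup_fieldPart : E₀ ⊔ fieldPart S = E := by
  refine le_antisymm (sup_le C.conf.le C.fieldPart_le) fun e he => ?_
  obtain ⟨h, hh, f, hf, rfl⟩ := C.exists_mul he
  exact mul_mem_sup hh hf

theorem eq_iff_fieldPart : E = E₀ ↔ fieldPart S = ⊥ := by
  refine ⟨fun h => ?_, fun h => by rw [← C.sup_fieldPart, h, sup_bot_eq]⟩
  rw [← C.fieldPart_inf, ← h, inf_eq_left.2 C.fieldPart_le]

/-- `F` embeds into the group of field automorphisms. -/
theorem exists_fieldHom (K : Type) [Field K] [Fintype K] (hK : Odd (Fintype.card K))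
    (φ : ↥E₀ ≃* Matrix.ProjectiveSpecialLinearGroup (Fin 2) K) :
    ∃ τ : ↥(fieldPart S) →* (K ≃+* K), Function.Injective τ := by
  have h2 : (2 : K) ≠ 0 := PSLTwo.Sylow.two_ne_zero_of_odd (Nat.odd_iff.1 hK)
  set L := E₀.subgroupOf E with hL
  haveI : L.Normal := ⟨fun n hn c => mem_subgroupOf.2 (by
    simpa using C.conf.conj₀ c c.2 n (mem_subgroupOf.1 hn))⟩
  let e : L ≃* Matrix.ProjectiveSpecialLinearGroup (Fin 2) K :=
    (subgroupOfEquivOfLe C.conf.le).trans φ
  have hLc : Subgroup.centralizer (L : Set E) = ⊥ := by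
    rw [eq_bot_iff]
    intro c hc
    refine mem_bot.2 (Subtype.ext (C.conf.cE c c.2 fun y hy => ?_))
    exact congrArg Subtype.val
      (mem_centralizer_iff.1 hc ⟨y, C.conf.le hy⟩ (mem_subgroupOf.2 hy)).symm
  let ι : ↥(fieldPart S) →* ↥E := Subgroup.inclusion C.fieldPart_le
  choose g σ hgσ using fun x : ↥(fieldPart S) => Model.exists_semilinear L e (ι x)
  have huniq : ∀ {g' : GL (Fin 2) K} {σ' : K ≃+* K} {x : ↥(fieldPart S)},
      Model.autHom L e (ι x) = conjAut g' * fieldAut σ' → σ x = σ' := fun {g' σ' x} h =>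
    (conjAut_mul_fieldAut_injective (le_refl 2) ((hgσ x).symm.trans h)).2
  refine ⟨MonoidHom.mk' σ fun x y => huniq
    (g' := g x * Matrix.GeneralLinearGroup.map (σ x).toRingHom (g y)) ?_,
    (injective_iff_map_eq_one _).2 fun x hx => ?_⟩
  · rw [map_mul, map_mul, hgσ, hgσ, map_mul, map_mul, mul_assoc, ← mul_assoc (fieldAut (σ x)),
      fieldAut_mul_conjAut, mul_assoc, mul_assoc]
  replace hx : σ x = 1 := hx
  obtain ⟨a, b, r, T, ha, hb⟩ := C.exists_tri
  obtain ⟨i, j, w, Q⟩ := exists_quat (F := K) h2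
  set a₀ : G := ((φ.symm (QuotientGroup.mk i) : E₀) : G) with ha₀
  set b₀ : G := ((φ.symm (QuotientGroup.mk j) : E₀) : G) with hb₀
  have hQ : IsPGroup 2 (closure ({a₀, b₀} : Set G)) := closure_pgroup
    (by
      rintro y (rfl | rfl)
      · rw [ha₀, ← coe_mul, ← map_mul, Q.sq_mk_i, map_one, coe_one]
      · rw [hb₀, ← coe_mul, ← map_mul, Q.sq_mk_j, map_one, coe_one])
    (by
      rintro y (rfl | rfl) z (rfl | rfl)
      · rfl
      · rw [ha₀, hb₀, ← coe_mul, ← coe_mul, ← map_mul, ← map_mul, Q.comm_mk]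
      · rw [ha₀, hb₀, ← coe_mul, ← coe_mul, ← map_mul, ← map_mul, Q.comm_mk]
      · rfl)
  obtain ⟨h, hh, hcases⟩ := C.exists_conj_four T hQ ((closure_le _).2 (by
    rintro y (rfl | rfl)
    exacts [(φ.symm _).2, (φ.symm _).2]))
  have hxc : ∀ y ∈ closure ({a₀, b₀} : Set G), h⁻¹ * x * h * y = y * (h⁻¹ * x * h) := by
    intro y hy
    have hS : h * y * h⁻¹ ∈ (S : Subgroup G) := by
      rcases hcases y hy with e' | e' | e' | e' <;> rw [e']
      exacts [one_mem _, ha, hb, mul_mem ha hb]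
    calc h⁻¹ * x * h * y = h⁻¹ * (x * (h * y * h⁻¹)) * h := by group
      _ = h⁻¹ * ((h * y * h⁻¹) * x) * h := by rw [comm_fieldPart_sylow x.2 hS]
      _ = _ := by group
  set H : E := ⟨h, C.conf.le hh⟩ with hH
  set X : E := H⁻¹ * ι x * H with hX
  have hXval : (X : G) = h⁻¹ * x * h := rfl
  obtain ⟨s, hs⟩ := QuotientGroup.mk_surjective (e ⟨H, mem_subgroupOf.2 hh⟩)
  have haH : Model.autHom L e H = conjAut (Matrix.SpecialLinearGroup.toGL s) := by
    rw [conjAut_toGL, hs]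
    exact Model.autHom_of_mem L e ⟨H, mem_subgroupOf.2 hh⟩
  set g' := (Matrix.SpecialLinearGroup.toGL s)⁻¹ * g x * Matrix.SpecialLinearGroup.toGL s
  have hlin : Model.autHom L e X = conjAut g' := by
    rw [map_mul, map_mul, map_inv, haH, hgσ, hx, map_one, mul_one, map_mul, map_mul, map_inv]
  have hfix : ∀ y : Matrix.ProjectiveSpecialLinearGroup (Fin 2) K,
      ((φ.symm y : E₀) : G) ∈ closure ({a₀, b₀} : Set G) → (conjAut g') y = y := by
    intro y hy
    obtain ⟨l, rfl⟩ := e.surjective y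
    rw [← hlin, Model.autHom_apply]
    congr 1
    have hl : ((φ.symm (e l) : E₀) : G) = ((l : E) : G) := by simp [e, subgroupOfEquivOfLe]
    have h' := hxc _ hy
    rw [hl, ← hXval] at h'
    refine Subtype.ext (Subtype.ext ?_)
    simp only [MulAut.conjNormal_apply, Subgroup.coe_mul, Subgroup.coe_inv]
    rw [h', mul_inv_cancel_right]
  obtain ⟨v, -, hg⟩ := Q.fix_linear h2 (hfix _ (subset_closure (Or.inl rfl)))
    (hfix _ (subset_closure (Or.inr rfl)))
  obtain ⟨l, rfl⟩ := e.surjective v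
  have hXl : X = (l : E) :=
    Model.autHom_injective L e hLc (by rw [hlin, hg, Model.autHom_of_mem L e l])
  have hX0 : h⁻¹ * (x : G) * h ∈ E₀ := by
    rw [← hXval, hXl]
    exact mem_subgroupOf.1 l.2
  have hx0 : (x : G) ∈ fieldPart S ⊓ E₀ := ⟨x.2, by
    have := mul_mem (mul_mem hh hX0) (inv_mem hh)
    simpa [mul_assoc] using this⟩
  rw [C.fieldPart_inf, mem_bot] at hx0
  exact Subtype.ext hx0

theorem isCyclic_fieldPart : IsCyclic ↥(fieldPart S) := by
  obtain ⟨K, _, _, hq, -, ⟨φ⟩⟩ := C.cent.2.2.2.2.1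
  obtain ⟨τ, hτ⟩ := C.exists_fieldHom K (Nat.odd_iff.2 (by omega)) φ
  haveI := isCyclic_fieldAuts (F := K)
  exact isCyclic_of_injective τ hτ

theorem comm_fieldPart {x y : G} (hx : x ∈ fieldPart S) (hy : y ∈ fieldPart S) :
    x * y = y * x := by
  haveI := C.isCyclic_fieldPart
  obtain ⟨z, hz⟩ := IsCyclic.exists_generator (α := ↥(fieldPart S))
  obtain ⟨m, hm⟩ := mem_zpowers_iff.1 (hz ⟨x, hx⟩)
  obtain ⟨n, hn⟩ := mem_zpowers_iff.1 (hz ⟨y, hy⟩)
  have h := congrArg Subtype.val ((Commute.refl z).zpow_zpow m n).eq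
  rw [hm, hn] at h
  exact h

/-- The order of `F` divides `f` where `q = p ^ f`. -/
theorem card_fieldPart_dvd (K : Type) [Field K] [Fintype K] (hK : Odd (Fintype.card K))
    (φ : ↥E₀ ≃* Matrix.ProjectiveSpecialLinearGroup (Fin 2) K) {p f : ℕ} [Fact p.Prime]
    (hf : Fintype.card K = p ^ f) : Nat.card ↥(fieldPart S) ∣ f := by
  obtain ⟨τ, hτ⟩ := C.exists_fieldHom K hK φ
  rw [← card_fieldAuts hf]
  exact Subgroup.card_dvd_of_injective τ hτ

end Ctx

end Cfsg.Agent.Lib.Walter.NoField
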