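import Cfsg.Agent.Lib.Walter.NoField.Local.FieldPart

/-!
# Section Z, local facts: the normaliser of `S`

`N(S)` is transitive on `S#` and centralises `F`; different elements of `F` are not conjugate.

Owner: helper66.
-/

set_option autoImplicit false
set_option linter.unusedSectionVars false
set_option linter.style.haveILetI false

universe u

namespace Cfsg.Agent.Lib.Walter.NoField

open Subgroup Walter66

variable {G : Type u} [Group G] [Finite G]

namespace Ctx

variable {S : Sylow 2 G} {u : G} {E E₀ : Subgroup G} (C : Ctx S u E E₀)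
include C

theorem ne_one : u ≠ 1 := ne_one_of_ord C.ord

theorem exists_conj_of_mem {a b : G} (ha : a ∈ (S : Subgroup G)) (ha1 : a ≠ 1)
    (hb : b ∈ (S : Subgroup G)) (hb1 : b ≠ 1) :
    ∃ n ∈ normalizer ((S : Subgroup G) : Set G), n * a * n⁻¹ = b := by
  obtain ⟨g, hg⟩ := isConj_iff.1 (C.jr.conj a b (C.orderOf_mem ha ha1) (C.orderOf_mem hb hb1))
  obtain ⟨n, hn, he⟩ := exists_normalizer_conj (IsJR.sylow_comm C.jr S) ha (g := g) (hg ▸ hb)
  exact ⟨n, hn, he.trans hg⟩

variable {a b r : G} (T : Tri E E₀ a b r)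
include T

theorem rot_comm_u : r * u = u * r := C.mem_cent r (C.conf.le T.rmem)

theorem rot_ab : r * (a * b) * r⁻¹ = b := by
  rw [show r * (a * b) * r⁻¹ = (r * a * r⁻¹) * (r * b * r⁻¹) by group, T.ca, T.cb, T.comm,
    mul_assoc, sq_of_ord T.ha, mul_one]

theorem rot_mem_normalizer (ha : a ∈ (S : Subgroup G)) (hb : b ∈ (S : Subgroup G)) :
    r ∈ normalizer ((S : Subgroup G) : Set G) := by
  have hu : r * u * r⁻¹ = u := by rw [C.rot_comm_u T, mul_inv_cancel_right]
  have hle : (S : Subgroup G).map (MulAut.conj r).toMonoidHom ≤ (S : Subgroup G) := by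
    rintro _ ⟨p, hp, rfl⟩
    obtain ⟨v, hv, hpv⟩ := C.cases_S T ha hb hp
    have hv' : r * v * r⁻¹ ∈ (S : Subgroup G) := by
      rcases hv with rfl | rfl | rfl | rfl
      · simp
      · rw [T.ca]; exact mul_mem ha hb
      · rw [T.cb]; exact ha
      · rw [C.rot_ab T]; exact hb
    show r * p * r⁻¹ ∈ (S : Subgroup G)
    rcases hpv with rfl | rfl
    · exact hv'
    · rw [show r * (u * v) * r⁻¹ = (r * u * r⁻¹) * (r * v * r⁻¹) by group, hu]
      exact mul_mem C.mem hv'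
  have he := Subgroup.eq_of_le_of_card_ge hle
    (Nat.card_congr ((S : Subgroup G).equivMapOfInjective _ (MulAut.conj r).injective).toEquiv).le
  refine mem_normalizer_iff.2 fun x => ⟨fun hx => hle ⟨x, hx, rfl⟩, fun hx => ?_⟩
  rw [← he] at hx
  obtain ⟨y, hy, hye⟩ := hx
  have : y = x := (MulAut.conj r).injective hye
  exact this ▸ hy

/-- The element `r` fixes only `u` in `S#`. -/
theorem rot_fix (ha : a ∈ (S : Subgroup G)) (hb : b ∈ (S : Subgroup G)) {p : G}
    (hp : p ∈ (S : Subgroup G)) (hf : r * p * r⁻¹ = p) : p = 1 ∨ p = u := by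
  obtain ⟨v, hv, hpv⟩ := C.cases_S T ha hb hp
  have hv' : r * v * r⁻¹ = v := by
    rcases hpv with rfl | rfl
    · exact hf
    · rw [show r * (u * v) * r⁻¹ = (r * u * r⁻¹) * (r * v * r⁻¹) by group, C.rot_comm_u T,
        mul_inv_cancel_right] at hf
      exact mul_left_cancel hf
  have hv1 : v = 1 := by
    rcases hv with rfl | rfl | rfl | rfl
    · rfl
    · rw [T.ca, mul_eq_left] at hv'
      exact absurd hv' (ne_one_of_ord T.hb)
    · rw [T.cb] at hv'
      exact absurd hv' T.ne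
    · rw [C.rot_ab T, right_eq_mul] at hv'
      exact absurd hv' (ne_one_of_ord T.ha)
  subst hv1
  simpa using hpv

/-- The cube of `r` fixes `S`. -/
theorem rot_cube (ha : a ∈ (S : Subgroup G)) (hb : b ∈ (S : Subgroup G)) {p : G}
    (hp : p ∈ (S : Subgroup G)) : r * (r * (r * p * r⁻¹) * r⁻¹) * r⁻¹ = p := by
  obtain ⟨v, hv, hpv⟩ := C.cases_S T ha hb hp
  have hu : r * u * r⁻¹ = u := by rw [C.rot_comm_u T, mul_inv_cancel_right]
  have h1 : r * (r * (r * v * r⁻¹) * r⁻¹) * r⁻¹ = v := by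
    rcases hv with rfl | rfl | rfl | rfl
    · simp
    · rw [T.ca, C.rot_ab T, T.cb]
    · rw [T.cb, T.ca, C.rot_ab T]
    · rw [C.rot_ab T, T.cb, T.ca]
  rcases hpv with rfl | rfl
  · exact h1
  · rw [show r * (r * (r * (u * v) * r⁻¹) * r⁻¹) * r⁻¹ = (r * (r * (r * u * r⁻¹) * r⁻¹) * r⁻¹) *
      (r * (r * (r * v * r⁻¹) * r⁻¹) * r⁻¹) by group, hu, hu, hu, h1]

omit T

/-- `N(S) ⊓ C(u)` centralises `F`. -/
theorem comm_of_comm_u {n : G} (hn : n ∈ normalizer ((S : Subgroup G) : Set G))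
    (hnu : n * u = u * n) {x : G} (hx : x ∈ fieldPart S) : n * x = x * n := by
  obtain ⟨e, he, hne⟩ := C.conf.decomp n hnu
  have hux : Commute u x := (C.comm_u hx).symm
  suffices h : Commute e x by
    rcases hne with rfl | rfl
    exacts [h.eq, (hux.mul_left h).eq]
  have heN : e ∈ normalizer ((S : Subgroup G) : Set G) := by
    rcases hne with rfl | rfl
    · exact hn
    · exact ((normalizer ((S : Subgroup G) : Set G)).mul_mem_cancel_left (le_normalizer C.mem)).1 hn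
  obtain ⟨h, hh, f, hf, rfl⟩ := C.exists_mul he
  have hhN : h ∈ normalizer ((S : Subgroup G) : Set G) :=
    ((normalizer ((S : Subgroup G) : Set G)).mul_mem_cancel_right
      (centralizer_le_normalizer ((S : Subgroup G) : Set G)
        (fieldPart_le_centralizer S hf))).1 heN
  have hm : h * x * h⁻¹ * x⁻¹ ∈ fieldPart S ⊓ E₀ := by
    refine mem_inf.2 ⟨mul_mem (conj_mem_fieldPart hhN hx) (inv_mem hx), ?_⟩
    rw [show h * x * h⁻¹ * x⁻¹ = h * (x * h⁻¹ * x⁻¹) by group]
    exact mul_mem hh (C.conf.conj₀ x (C.fieldPart_le hx) _ (inv_mem hh))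
  rw [C.fieldPart_inf, mem_bot, mul_inv_eq_one, mul_inv_eq_iff_eq_mul] at hm
  exact Commute.mul_left hm (C.comm_fieldPart hf hx)

/-- `N(S)` centralises `F`. -/
theorem comm_normalizer {n : G} (hn : n ∈ normalizer ((S : Subgroup G) : Set G)) {x : G}
    (hx : x ∈ fieldPart S) : n * x = x * n := by
  obtain ⟨a, b, r, T, ha, hb⟩ := C.exists_tri
  set N := normalizer ((S : Subgroup G) : Set G) with hN
  let P : G → Prop := fun k => k ∈ N ∧ ∀ y ∈ fieldPart S, k * y = y * k
  have hPconj : ∀ {m k : G}, m ∈ N → P k → P (m * k * m⁻¹) := fun {m k} hm hk =>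
    ⟨mul_mem (mul_mem hm hk.1) (inv_mem hm), fun y hy => by
      have h := hk.2 _ (conj_mem_fieldPart (inv_mem hm) hy)
      rw [inv_inv] at h
      calc m * k * m⁻¹ * y = m * (k * (m⁻¹ * y * m)) * m⁻¹ := by group
        _ = m * ((m⁻¹ * y * m) * k) * m⁻¹ := by rw [h]
        _ = _ := by group⟩
  have hPmul : ∀ {k l : G}, P k → P l → P (k * l) := fun {k l} hk hl =>
    ⟨mul_mem hk.1 hl.1, fun y hy => (Commute.mul_left (hk.2 y hy) (hl.2 y hy)).eq⟩
  have hPu : ∀ {k : G}, k ∈ N → k * u = u * k → P k := fun {k} hk hku =>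
    ⟨hk, fun y hy => C.comm_of_comm_u hk hku hy⟩
  have hrN : r ∈ N := C.rot_mem_normalizer T ha hb
  have hPr : P r := hPu hrN (C.rot_comm_u T)
  set O : Set G := {d | ∃ k, P k ∧ k * u * k⁻¹ = d} with hO
  have hOS : O ⊆ ((S : Subgroup G) : Set G) \ {1} := by
    rintro _ ⟨k, hk, rfl⟩
    exact ⟨(mem_normalizer_iff.1 hk.1 u).1 C.mem, fun h => C.ne_one (conj_eq_one_iff.1 h)⟩
  -- some element of `P` moves `u`
  obtain ⟨c, hcO, hcu⟩ : ∃ c ∈ O, c ≠ u := by
    obtain ⟨m, hm, hma⟩ := C.exists_conj_of_mem C.mem C.ne_one ha (ne_one_of_ord T.ha)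
    refine ⟨_, ⟨m * r * m⁻¹, hPconj hm hPr, rfl⟩, fun h => ?_⟩
    have h1 : r * (m⁻¹ * u * m) * r⁻¹ = m⁻¹ * u * m := by
      calc r * (m⁻¹ * u * m) * r⁻¹ = m⁻¹ * (m * r * m⁻¹ * u * (m * r * m⁻¹)⁻¹) * m := by group
        _ = _ := by rw [h]
    have hmS : m⁻¹ * u * m ∈ (S : Subgroup G) := (Subgroup.mem_normalizer_iff''.1 hm u).1 C.mem
    rcases C.rot_fix T ha hb hmS h1 with h2 | h2
    · exact C.ne_one (by simpa [mul_assoc] using congrArg (fun y => m * y * m⁻¹) h2)
    · have h3 : u = a := by rw [← hma]; nth_rw 2 [← h2]; group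
      exact C.conf.not_mem (h3 ▸ C.conf.le T.amem)
  -- `n u n⁻¹` is the image of `u` under `P`
  suffices hgoal : n * u * n⁻¹ ∈ O by
    obtain ⟨k, hk, hke⟩ := hgoal
    have hkn : P (k⁻¹ * n) := hPu (mul_mem (inv_mem hk.1) hn) (by
      calc k⁻¹ * n * u = k⁻¹ * (n * u * n⁻¹) * n := by group
        _ = k⁻¹ * (k * u * k⁻¹) * n := by rw [hke]
        _ = u * (k⁻¹ * n) := by group)
    have h := (hPmul hk hkn).2 x hx
    rwa [mul_inv_cancel_left] at h
  by_contra hnO
  have hrO : ∀ d ∈ O, r * d * r⁻¹ ∈ O := by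
    rintro _ ⟨k, hk, rfl⟩
    exact ⟨r * k, hPmul hPr hk, by group⟩
  have hdisj : Disjoint O ((fun y => n * y * n⁻¹) '' O) := by
    refine Set.disjoint_left.2 ?_
    rintro _ ⟨k', hk', rfl⟩ ⟨_, ⟨k, hk, rfl⟩, he⟩
    have hk2 := hPconj hn hk
    have hk3 : P (n * k * n⁻¹)⁻¹ :=
      ⟨inv_mem hk2.1, fun y hy => (Commute.inv_left (hk2.2 y hy)).eq⟩
    refine hnO ⟨(n * k * n⁻¹)⁻¹ * k', hPmul hk3 hk', ?_⟩
    calc (n * k * n⁻¹)⁻¹ * k' * u * ((n * k * n⁻¹)⁻¹ * k')⁻¹
        = (n * k * n⁻¹)⁻¹ * (k' * u * k'⁻¹) * (n * k * n⁻¹) := by group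
      _ = n * u * n⁻¹ := by rw [← he]; group
  have hinj : Function.Injective (fun y : G => n * y * n⁻¹) := fun y z h =>
    mul_left_cancel (mul_right_cancel h)
  have h4 : 4 ≤ O.ncard := by
    have hc1 := hrO c hcO
    have hc2 := hrO _ hc1
    have hcS := (hOS hcO).1
    have hne : r * c * r⁻¹ ≠ c := fun h => (C.rot_fix T ha hb hcS h).elim (hOS hcO).2 hcu
    have hne2 : r * (r * c * r⁻¹) * r⁻¹ ≠ c := fun h => by
      have h3 := C.rot_cube T ha hb hcS
      rw [h] at h3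
      exact hne h3
    have hne3 : r * (r * c * r⁻¹) * r⁻¹ ≠ r * c * r⁻¹ := fun h =>
      hne (mul_left_cancel (mul_right_cancel h))
    have huO : u ∈ O := ⟨1, ⟨one_mem _, fun y _ => by simp⟩, by simp⟩
    have hru : ∀ y, r * y * r⁻¹ = u → y = u := fun y h => by
      calc y = r⁻¹ * (r * y * r⁻¹) * r := by group
        _ = r⁻¹ * (u * r) := by rw [h, mul_assoc]
        _ = u := by rw [← C.rot_comm_u T, inv_mul_cancel_left]
    have hu1 : r * c * r⁻¹ ≠ u := fun h => hcu (hru _ h)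
    have hu2 : r * (r * c * r⁻¹) * r⁻¹ ≠ u := fun h => hu1 (hru _ h)
    have hsub : ({u, c, r * c * r⁻¹, r * (r * c * r⁻¹) * r⁻¹} : Set G) ⊆ O := by
      rintro y (rfl | rfl | rfl | rfl)
      exacts [huO, hcO, hc1, hc2]
    refine le_trans ?_ (Set.ncard_le_ncard hsub (Set.toFinite _))
    rw [Set.ncard_insert_of_notMem (by simp [hcu.symm, hu1.symm, hu2.symm]),
      Set.ncard_insert_of_notMem (by simp [hne.symm, hne2.symm]),
      Set.ncard_insert_of_notMem (by simp [hne3.symm]), Set.ncard_singleton]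
  have hsub : O ∪ (fun y => n * y * n⁻¹) '' O ⊆ ((S : Subgroup G) : Set G) \ {1} := by
    refine Set.union_subset hOS ?_
    rintro _ ⟨y, hy, rfl⟩
    exact ⟨(mem_normalizer_iff.1 hn y).1 (hOS hy).1, fun h => (hOS hy).2 (conj_eq_one_iff.1 h)⟩
  have h7 : (((S : Subgroup G) : Set G) \ {1}).ncard = 7 := by
    rw [Set.ncard_sdiff_singleton_of_mem (one_mem _), ← Nat.card_coe_set_eq]
    show Nat.card ↥(S : Subgroup G) - 1 = 7
    rw [C.jr.card_sylow S]
  have := Set.ncard_le_ncard hsub (Set.toFinite _)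
  rw [Set.ncard_union_eq hdisj, Set.ncard_image_of_injective _ hinj, h7] at this
  omega

theorem normalizer_le_centralizer_fieldPart :
    normalizer ((S : Subgroup G) : Set G) ≤ centralizer (fieldPart S : Set G) := fun _ hn =>
  mem_centralizer_iff.2 fun _ hx => (C.comm_normalizer hn hx).symm

/-- Different elements of `F` are not conjugate. -/
theorem conj_fieldPart_eq {x y g : G} (hx : x ∈ fieldPart S) (hy : y ∈ fieldPart S)
    (hg : g * x * g⁻¹ = y) : x = y := by
  haveI : Fact (Nat.Prime 2) := ⟨Nat.prime_two⟩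
  have hS : (S : Subgroup G) ≤ centralizer ({y} : Set G) := fun s hs =>
    mem_centralizer_singleton_iff.2 (comm_fieldPart_sylow hy hs).symm
  have hS' : ((g • S : Sylow 2 G) : Subgroup G) ≤ centralizer ({y} : Set G) := by
    intro z hz
    rw [Sylow.coe_subgroup_smul] at hz
    obtain ⟨s, hs, rfl⟩ := hz
    refine mem_centralizer_singleton_iff.2 ?_
    show g * s * g⁻¹ * y = y * (g * s * g⁻¹)
    calc g * s * g⁻¹ * y = g * (s * x) * g⁻¹ := by rw [← hg]; group
      _ = g * (x * s) * g⁻¹ := by rw [comm_fieldPart_sylow hx hs]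
      _ = _ := by rw [← hg]; group
  obtain ⟨c, hc⟩ := MulAction.exists_smul_eq (centralizer ({y} : Set G))
    ((g • S : Sylow 2 G).subtype hS') (S.subtype hS)
  have hcg : (c : G) * g ∈ normalizer ((S : Subgroup G) : Set G) := by
    have h1 : ∀ s ∈ (S : Subgroup G), (c : G) * g * s * ((c : G) * g)⁻¹ ∈ (S : Subgroup G) := by
      intro s hs
      have hmem : g * s * g⁻¹ ∈ ((g • S : Sylow 2 G) : Subgroup G) := by
        rw [Sylow.coe_subgroup_smul]
        exact Subgroup.smul_mem_pointwise_smul (a := MulAut.conj g) s _ hs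
      have h2 : c * (⟨_, hS' hmem⟩ : centralizer ({y} : Set G)) * c⁻¹ ∈
          (S.subtype hS : Subgroup (centralizer ({y} : Set G))) := by
        rw [← hc, Sylow.coe_subgroup_smul]
        exact Subgroup.smul_mem_pointwise_smul (a := MulAut.conj c)
          (⟨_, hS' hmem⟩ : centralizer ({y} : Set G)) _
          (by rw [Sylow.coe_subtype]; exact mem_subgroupOf.2 hmem)
      rw [Sylow.coe_subtype] at h2
      have h3 : (c : G) * (g * s * g⁻¹) * (c : G)⁻¹ ∈ (S : Subgroup G) := mem_subgroupOf.1 h2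
      rwa [show (c : G) * g * s * ((c : G) * g)⁻¹ = (c : G) * (g * s * g⁻¹) * (c : G)⁻¹ by group]
    refine mem_normalizer_iff.2 fun s => ⟨h1 s, fun hs => ?_⟩
    have hle : (S : Subgroup G).map (MulAut.conj ((c : G) * g)).toMonoidHom ≤ (S : Subgroup G) := by
      rintro _ ⟨z, hz, rfl⟩
      exact h1 z hz
    have he := Subgroup.eq_of_le_of_card_ge hle (Nat.card_congr
      ((S : Subgroup G).equivMapOfInjective _ (MulAut.conj ((c : G) * g)).injective).toEquiv).le
    rw [← he] at hs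
    obtain ⟨z, hz, hze⟩ := hs
    have : z = s := (MulAut.conj ((c : G) * g)).injective hze
    exact this ▸ hz
  have h := C.comm_normalizer hcg hx
  have hcy : (c : G) * y = y * (c : G) := mem_centralizer_singleton_iff.1 c.2
  calc x = (c : G) * g * x * ((c : G) * g)⁻¹ := by rw [h, mul_inv_cancel_right]
    _ = (c : G) * (g * x * g⁻¹) * (c : G)⁻¹ := by group
    _ = y := by rw [hg, hcy, mul_inv_cancel_right]

/-- `N(S) ⊓ C(u) = ⟨r⟩ C(S)`. -/
theorem exists_rot_mul (T : Tri E E₀ a b r) (ha : a ∈ (S : Subgroup G))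
    (hb : b ∈ (S : Subgroup G)) {n : G} (hn : n ∈ normalizer ((S : Subgroup G) : Set G))
    (hnu : n * u = u * n) :
    ∃ (k : ℕ) (c : G), c ∈ centralizer ((S : Subgroup G) : Set G) ∧ r ^ k * n = c := by
  have hcase : ∀ x, x ∈ E → x ∈ (S : Subgroup G) → x ≠ 1 →
      n * x * n⁻¹ = a ∨ n * x * n⁻¹ = b ∨ n * x * n⁻¹ = a * b := fun x hxE hxS hx1 =>
    (C.inf_cases T ha hb ((mem_normalizer_iff.1 hn x).1 hxS)
      (C.conf.comm_t hnu hxE)).resolve_left fun h => hx1 (conj_eq_one_iff.1 h)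
  have haE := C.conf.le T.amem
  have hbE := C.conf.le T.bmem
  obtain ⟨k, hk⟩ : ∃ k : ℕ, r ^ k * n * a * (r ^ k * n)⁻¹ = a := by
    have e : ∀ k : ℕ, r ^ k * n * a * (r ^ k * n)⁻¹ = r ^ k * (n * a * n⁻¹) * (r ^ k)⁻¹ := fun k => by
      group
    rcases hcase a haE ha (ne_one_of_ord T.ha) with h | h | h
    · exact ⟨0, by simpa using h⟩
    · exact ⟨1, by rw [e, h, pow_one, T.cb]⟩
    · refine ⟨2, ?_⟩
      rw [e, h, pow_two, show r * r * (a * b) * (r * r)⁻¹ = r * (r * (a * b) * r⁻¹) * r⁻¹ by group,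
        C.rot_ab T, T.cb]
  refine ⟨k, _, ?_, rfl⟩
  set d := r ^ k * n with hd
  have hdN : d ∈ normalizer ((S : Subgroup G) : Set G) :=
    mul_mem (pow_mem (C.rot_mem_normalizer T ha hb) k) hn
  have hdu : d * u = u * d := (Commute.mul_left ((show Commute r u from C.rot_comm_u T).pow_left k) hnu).eq
  have hdb : d * b * d⁻¹ = b := by
    have h1 : d * b * d⁻¹ ∈ (S : Subgroup G) := (mem_normalizer_iff.1 hdN b).1 hb
    rcases C.inf_cases T ha hb h1 (C.conf.comm_t hdu hbE) with h | h | h | h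
    · exact absurd (conj_eq_one_iff.1 h) (ne_one_of_ord T.hb)
    · exact absurd (mul_left_cancel (mul_right_cancel (hk.trans h.symm))) T.ne
    · exact h
    · have h4 : d * (a * b) * d⁻¹ = b := by
        rw [show d * (a * b) * d⁻¹ = (d * a * d⁻¹) * (d * b * d⁻¹) by group, hk, h, ← mul_assoc,
          sq_of_ord T.ha, one_mul]
      have h5 := IsJR.not_swap C.jr S.isPGroup' hdN hb h h4
      exact absurd (mul_right_cancel (h5.symm.trans (one_mul b).symm)) (ne_one_of_ord T.ha)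
  exact C.mem_centralizer_of T ha hb hdu (mul_inv_eq_iff_eq_mul.1 hk)
    (mul_inv_eq_iff_eq_mul.1 hdb)

end Ctx

end Cfsg.Agent.Lib.Walter.NoField
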