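import Cfsg.Agent.Lib.Walter.NoField.Local.NormSylow

/-!
# Section Z, local facts: the centraliser of a four-group `⟨u, w⟩`

`C⟨u,w⟩ = S (T F)`, `T` abelian of odd order inverted by `S ⊓ E₀ ∖ ⟨w⟩`.

Owner: helper66.
-/

set_option autoImplicit false
set_option linter.unusedSectionVars false
set_option linter.style.haveILetI false

universe u

namespace Cfsg.Agent.Lib.Walter.NoField

open Subgroup Walter66
open scoped commutatorElement

variable {G : Type u} [Group G] [Finite G]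

theorem mem_centralizer_pair {x y c : G} :
    c ∈ centralizer ({x, y} : Set G) ↔ c * x = x * c ∧ c * y = y * c := by
  constructor
  · exact fun h => ⟨(mem_centralizer_iff.1 h x (Or.inl rfl)).symm,
      (mem_centralizer_iff.1 h y (Or.inr rfl)).symm⟩
  · rintro ⟨hx, hy⟩
    refine mem_centralizer_iff.2 ?_
    rintro z (rfl | rfl)
    exacts [hx.symm, hy.symm]

theorem pairCore_le (x y : G) : pairCore x y ≤ centralizer ({x, y} : Set G) := Balance.coreIn_le _

theorem odd_pairCore (x y : G) : Odd (Nat.card (pairCore x y)) := JRBal.odd_coreIn _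

/-- The pair core only depends on the four-group. -/
theorem pairCore_eq {x y x' y' : G}
    (h : centralizer ({x, y} : Set G) = centralizer ({x', y'} : Set G)) :
    pairCore x y = pairCore x' y' := by
  rw [pairCore, pairCore, h]

theorem torus_eq_of_centralizer {S : Sylow 2 G} {x y x' y' : G}
    (h : centralizer ({x, y} : Set G) = centralizer ({x', y'} : Set G)) :
    torus S x y = torus S x' y' := by
  rw [torus, torus, pairCore_eq h]

theorem conj_mem_pairCore {x y g o : G}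
    (hg : ∀ c ∈ centralizer ({x, y} : Set G), g * c * g⁻¹ ∈ centralizer ({x, y} : Set G))
    (ho : o ∈ pairCore x y) : g * o * g⁻¹ ∈ pairCore x y :=
  conj_mem_coreIn hg ho

theorem pairCore_conj_self {x y c o : G} (hc : c ∈ centralizer ({x, y} : Set G))
    (ho : o ∈ pairCore x y) : c * o * c⁻¹ ∈ pairCore x y :=
  conj_mem_pairCore (fun _ hd => mul_mem (mul_mem hc hd) (inv_mem hc)) ho

namespace Ctx

variable {S : Sylow 2 G} {u : G} {E E₀ : Subgroup G} (C : Ctx S u E E₀)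
include C

theorem conj_E₀_sylow {s x : G} (hs : s ∈ (S : Subgroup G)) (hx : x ∈ E₀) : s * x * s⁻¹ ∈ E₀ :=
  C.conf.conj_E₀ (C.comm hs C.mem) hx

theorem inv_sylow {s : G} (hs : s ∈ (S : Subgroup G)) : s⁻¹ = s :=
  inv_eq_of_mul_eq_one_right (C.sq hs)

variable {w : G} (hw : w ∈ (S : Subgroup G)) (hwE : w ∈ E₀) (hw1 : w ≠ 1)

theorem sylow_le_pair (hw : w ∈ (S : Subgroup G)) :
    (S : Subgroup G) ≤ centralizer ({u, w} : Set G) := fun _ hs =>
  mem_centralizer_pair.2 ⟨C.comm hs C.mem, C.comm hs hw⟩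

include hw hwE hw1

/-- The four-group of `E₀` in `S` can be taken through `w`. -/
theorem exists_tri_at : ∃ v r : G, Tri E E₀ w v r ∧ v ∈ (S : Subgroup G) := by
  obtain ⟨a, b, r, T, ha, hb⟩ := C.exists_tri
  have hr := C.rot_mem_normalizer T ha hb
  have key : ∀ k : G, k ∈ normalizer ((S : Subgroup G) : Set G) → k * u = u * k →
      k * a * k⁻¹ = w → ∃ v r' : G, Tri E E₀ w v r' ∧ v ∈ (S : Subgroup G) := by
    intro k hk hku hka
    have hku' : k⁻¹ * u = u * k⁻¹ := (Commute.inv_left hku).eq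
    refine ⟨k * b * k⁻¹, k * r * k⁻¹, ?_, (mem_normalizer_iff.1 hk b).1 hb⟩
    rw [← hka]
    refine tri_conj T (fun x => ⟨C.conf.conj_E₀ hku, fun hx => ?_⟩) fun e he => ?_
    · have := C.conf.conj_E₀ hku' hx
      simpa [mul_assoc] using this
    · have := C.conf.comm_t hku' he
      simpa [mul_assoc] using this
  rcases C.inf_cases T ha hb hw (C.conf.le hwE) with h | h | h | h
  · exact absurd h hw1
  · exact key 1 (one_mem _) (by simp) (by simp [h])
  · refine key (r * r) (mul_mem hr hr) (Commute.mul_left (C.rot_comm_u T) (C.rot_comm_u T)).eq ?_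
    rw [show r * r * a * (r * r)⁻¹ = r * (r * a * r⁻¹) * r⁻¹ by group, T.ca, C.rot_ab T, h]
  · exact key r hr (C.rot_comm_u T) (by rw [T.ca, h])

/-- `N(S) ⊓ C⟨u,w⟩ = C(S)`. -/
theorem centralizes_of_normalizes {n : G} (hn : n ∈ normalizer ((S : Subgroup G) : Set G))
    (hc : n ∈ centralizer ({u, w} : Set G)) : n ∈ centralizer ((S : Subgroup G) : Set G) := by
  obtain ⟨v, r, T, hv⟩ := C.exists_tri_at hw hwE hw1
  obtain ⟨hnu, hnw⟩ := mem_centralizer_pair.1 hc
  refine C.mem_centralizer_of T hw hv hnu hnw (mul_inv_eq_iff_eq_mul.1 ?_)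
  have hv' : n * v * n⁻¹ ∈ (S : Subgroup G) := (mem_normalizer_iff.1 hn v).1 hv
  rcases C.inf_cases T hw hv hv' (C.conf.comm_t hnu (C.conf.le T.bmem)) with h | h | h | h
  · exact absurd (conj_eq_one_iff.1 h) (ne_one_of_ord T.hb)
  · have hw' : n * w * n⁻¹ = w := by rw [hnw, mul_inv_cancel_right]
    exact absurd (mul_left_cancel (mul_right_cancel (hw'.trans h.symm))) T.ne
  · exact h
  · have h4 : n * (w * v) * n⁻¹ = v := by
      rw [show n * (w * v) * n⁻¹ = (n * w * n⁻¹) * (n * v * n⁻¹) by group, h, hnw,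
        mul_inv_cancel_right, ← mul_assoc, C.sq hw, one_mul]
    have h5 := IsJR.not_swap C.jr S.isPGroup' hn hv h h4
    exact absurd (mul_right_cancel (h5.symm.trans (one_mul v).symm)) hw1

/-- `C⟨u,w⟩ = O S`. -/
theorem exists_mul_pairCore {c : G} (hc : c ∈ centralizer ({u, w} : Set G)) :
    ∃ o ∈ pairCore u w, ∃ s ∈ (S : Subgroup G), c = o * s :=
  JRBal.exists_mul_of_centralizes (C.sylow_le_pair hw)
    (fun n hn hnS s hs =>
      (mem_centralizer_iff.1 (C.centralizes_of_normalizes hw hwE hw1 hnS hn) s hs).symm) hc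

theorem mem_pairCore {x : G} (hx : x ∈ centralizer ({u, w} : Set G)) (ho : Odd (orderOf x)) :
    x ∈ pairCore u w := by
  obtain ⟨o, hoo, s, hs, rfl⟩ := C.exists_mul_pairCore hw hwE hw1 hx
  obtain ⟨n, hn⟩ := ho
  have hpow : ∀ m : ℕ, (o * s) ^ m * (s ^ m)⁻¹ ∈ pairCore u w := by
    intro m
    induction m with
    | zero => simp
    | succ m ih =>
      rw [pow_succ', pow_succ' s m, show o * s * (o * s) ^ m * (s * s ^ m)⁻¹ =
        o * (s * ((o * s) ^ m * (s ^ m)⁻¹) * s⁻¹) by group]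
      exact mul_mem hoo (pairCore_conj_self (C.sylow_le_pair hw hs) ih)
  have h := hpow (2 * n + 1)
  rw [← hn, pow_orderOf_eq_one, one_mul, hn, pow_succ s, pow_mul s, pow_two, C.sq hs, one_pow,
    one_mul, inv_mem_iff] at h
  exact mul_mem hoo h

theorem pairCore_le_E : pairCore u w ≤ E := fun x hx =>
  C.conf.odd_mem (mem_centralizer_pair.1 (pairCore_le _ _ hx)).1
    (odd_orderOf_mem (odd_pairCore _ _) hx)

theorem fieldPart_le_pairCore : fieldPart S ≤ pairCore u w := fun _ hx =>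
  C.mem_pairCore hw hwE hw1
    (mem_centralizer_pair.2 ⟨comm_fieldPart_sylow hx C.mem, comm_fieldPart_sylow hx hw⟩)
    (odd_orderOf_mem (odd_fieldPart S) hx)

/-- An involution of `S ⊓ E₀` outside `⟨w⟩` inverts `O ⊓ E₀`. -/
theorem inverts_inf {v : G} (hv : v ∈ (S : Subgroup G)) (hvE : v ∈ E₀) (hv1 : v ≠ 1) (hvw : v ≠ w)
    {x : G} (hx : x ∈ pairCore u w ⊓ E₀) : v * x * v⁻¹ = x⁻¹ := by
  obtain ⟨v₀, r, T, hv₀⟩ := C.exists_tri_at hw hwE hw1
  have hodd : Odd (Nat.card ↥(pairCore u w ⊓ E₀)) :=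
    (odd_pairCore u w).of_dvd_nat (card_dvd_of_le inf_le_left)
  obtain ⟨c, hc, i, -, hct, hit, rfl⟩ := RankOne.Involution.exists_decomp hodd (C.sq hv)
    (fun y hy => ⟨pairCore_conj_self (C.sylow_le_pair hw hv) hy.1, C.conj_E₀_sylow hv hy.2⟩) hx
  have hcw : c * w = w * c := (mem_centralizer_pair.1 (pairCore_le _ _ hc.1)).2
  have hcv : Commute c v := (mul_inv_eq_iff_eq_mul.1 hct).symm
  have hcv₀ : c * v₀ = v₀ * c := by
    rcases C.inf_cases T hw hv₀ hv (C.conf.le hvE) with h | h | h | h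
    · exact absurd h hv1
    · exact absurd h hvw
    · exact h ▸ hcv.eq
    · have h1 : v₀ = w * v := by rw [h, ← mul_assoc, C.sq hw, one_mul]
      rw [h1]
      exact (Commute.mul_right hcw hcv).eq
  have hc1 : c = 1 := JRBal.eq_one_of_sq_odd hodd hc (by
    rcases T.cent₀ c hc.2 hcw hcv₀ with rfl | rfl | rfl | rfl
    exacts [one_mul 1, C.sq hw, C.sq hv₀, C.sq (mul_mem hw hv₀)])
  rw [hc1, one_mul]
  exact hit

/-- `T = O ⊓ E₀`. -/
theorem torus_eq : torus S u w = pairCore u w ⊓ E₀ := by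
  obtain ⟨v, r, T, hv⟩ := C.exists_tri_at hw hwE hw1
  refine le_antisymm ((Subgroup.commutator_le).2 fun o ho s hs => ?_) fun x hx => ?_
  · refine ⟨?_, ?_⟩
    · rw [commutatorElement_def, mul_assoc o, mul_assoc o]
      exact mul_mem ho (pairCore_conj_self (C.sylow_le_pair hw hs) (inv_mem ho))
    · obtain ⟨h, hh, f, hf, rfl⟩ := C.exists_mul (C.pairCore_le_E hw hwE hw1 ho)
      rw [commutatorElement_def]
      have e : h * f * s * (h * f)⁻¹ * s⁻¹ = h * (s * h⁻¹ * s⁻¹) := by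
        calc h * f * s * (h * f)⁻¹ * s⁻¹ = h * (f * s) * (f⁻¹ * h⁻¹) * s⁻¹ := by group
          _ = h * (s * f) * (f⁻¹ * h⁻¹) * s⁻¹ := by rw [comm_fieldPart_sylow hf hs]
          _ = _ := by group
      rw [e]
      exact mul_mem hh (C.conj_E₀_sylow hs (inv_mem hh))
  · have h2 : x * x ∈ torus S u w := by
      have h := C.inverts_inf hw hwE hw1 hv T.bmem (ne_one_of_ord T.hb) T.ne.symm (inv_mem hx)
      rw [inv_inv] at h
      have hmem : ⁅x, v⁆ ∈ torus S u w := commutator_mem_commutator hx.1 hv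
      rwa [commutatorElement_def, mul_assoc x v, mul_assoc x, h] at hmem
    obtain ⟨m, hm⟩ := odd_orderOf_mem (odd_pairCore u w) hx.1
    have : x = (x * x) ^ (m + 1) := by
      rw [← pow_two, ← pow_mul, show 2 * (m + 1) = orderOf x + 1 by omega, pow_succ,
        pow_orderOf_eq_one, one_mul]
    rw [this]
    exact pow_mem h2 _

theorem torus_le : torus S u w ≤ pairCore u w :=
  (C.torus_eq hw hwE hw1).le.trans inf_le_left

theorem torus_le_E₀ : torus S u w ≤ E₀ :=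
  (C.torus_eq hw hwE hw1).le.trans inf_le_right

theorem odd_torus : Odd (Nat.card (torus S u w)) :=
  (odd_pairCore u w).of_dvd_nat (card_dvd_of_le (C.torus_le hw hwE hw1))

theorem torus_inverted {v : G} (hv : v ∈ (S : Subgroup G)) (hvE : v ∈ E₀) (hv1 : v ≠ 1)
    (hvw : v ≠ w) {x : G} (hx : x ∈ torus S u w) : v * x * v⁻¹ = x⁻¹ :=
  C.inverts_inf hw hwE hw1 hv hvE hv1 hvw (C.torus_eq hw hwE hw1 ▸ hx)

theorem comm_torus {x y : G} (hx : x ∈ torus S u w) (hy : y ∈ torus S u w) : x * y = y * x := by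
  obtain ⟨v, r, T, hv⟩ := C.exists_tri_at hw hwE hw1
  have hi := fun {z : G} => C.torus_inverted hw hwE hw1 hv T.bmem (ne_one_of_ord T.hb) T.ne.symm (x := z)
  have h1 := hi (mul_mem hx hy)
  rw [show v * (x * y) * v⁻¹ = (v * x * v⁻¹) * (v * y * v⁻¹) by group, hi hx, hi hy, ← mul_inv_rev,
    inv_inj] at h1
  exact h1.symm

/-- `T` is normalised by `S`. -/
theorem conj_torus_sylow {s x : G} (hs : s ∈ (S : Subgroup G)) (hx : x ∈ torus S u w) :
    s * x * s⁻¹ ∈ torus S u w := by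
  rw [C.torus_eq hw hwE hw1] at hx ⊢
  exact ⟨pairCore_conj_self (C.sylow_le_pair hw hs) hx.1, C.conj_E₀_sylow hs hx.2⟩

/-- `T` is normalised by `F`. -/
theorem conj_torus_fieldPart {f x : G} (hf : f ∈ fieldPart S) (hx : x ∈ torus S u w) :
    f * x * f⁻¹ ∈ torus S u w := by
  rw [C.torus_eq hw hwE hw1] at hx ⊢
  exact mem_inf.2 ⟨mul_mem (mul_mem (C.fieldPart_le_pairCore hw hwE hw1 hf) hx.1)
    (inv_mem (C.fieldPart_le_pairCore hw hwE hw1 hf)), C.conf.conj₀ f (C.fieldPart_le hf) x hx.2⟩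

/-- `O = T F`. -/
theorem exists_mul_torus {o : G} (ho : o ∈ pairCore u w) :
    ∃ x ∈ torus S u w, ∃ f ∈ fieldPart S, o = x * f := by
  obtain ⟨h, hh, f, hf, rfl⟩ := C.exists_mul (C.pairCore_le_E hw hwE hw1 ho)
  refine ⟨h, ?_, f, hf, rfl⟩
  rw [C.torus_eq hw hwE hw1]
  exact ⟨((pairCore u w).mul_mem_cancel_right (C.fieldPart_le_pairCore hw hwE hw1 hf)).1 ho, hh⟩

theorem torus_inf_fieldPart : torus S u w ⊓ fieldPart S = ⊥ := by
  rw [eq_bot_iff, ← C.fieldPart_inf]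
  exact fun x hx => ⟨hx.2, C.torus_le_E₀ hw hwE hw1 hx.1⟩

/-- `C(w)` in `E₀` is `T (S ⊓ E₀)`. -/
theorem exists_mul_of_mem_E₀ {x : G} (hx : x ∈ E₀) (hxw : x * w = w * x) :
    ∃ t ∈ torus S u w, ∃ s ∈ (S : Subgroup G) ⊓ E₀, x = t * s := by
  obtain ⟨o, ho, s, hs, hxo⟩ := C.exists_mul_pairCore hw hwE hw1
    (mem_centralizer_pair.2 ⟨C.mem_cent x (C.conf.le hx), hxw⟩)
  have hsE : s ∈ E := by
    rw [show s = o⁻¹ * x by rw [hxo]; group]
    exact mul_mem (inv_mem (C.pairCore_le_E hw hwE hw1 ho)) (C.conf.le hx)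
  have hs0 := C.mem_E₀_of_mem_E hs hsE
  refine ⟨o, ?_, s, ⟨hs, hs0⟩, hxo⟩
  rw [C.torus_eq hw hwE hw1]
  exact ⟨ho, (E₀.mul_mem_cancel_right hs0).1 (hxo ▸ hx)⟩

end Ctx

end Cfsg.Agent.Lib.Walter.NoField
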