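import Cfsg.Agent.Lib.Walter.Basic
import Cfsg.Agent.Lib.Walter.JRBalance.Sec
import Cfsg.Agent.Lib.Walter66.Config

/-!
# Section Z, local facts: the setting

`S` is a Sylow 2-subgroup of a group of Janko–Ree type, `u ∈ S` an involution with centraliser
`⟨u⟩ × E`, `E` over `E₀ ≅ PSL(2,q)`; `V = S ⊓ E₀ = {1, a, b, a b}` is the four-group of `E₀` in `S`.

Owner: helper66.
-/

set_option autoImplicit false
set_option linter.unusedSectionVars false
set_option linter.style.haveILetI false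

universe u

namespace Cfsg.Agent.Lib.Walter.NoField

open Subgroup Walter66

variable {G : Type u} [Group G] [Finite G]

/-- `F`, the odd core of `C(S)`. -/
def fieldPart (S : Sylow 2 G) : Subgroup G :=
  Balance.coreIn 2 (centralizer ((S : Subgroup G) : Set G))

/-- The odd core of the centraliser of the four-group `⟨x, y⟩`. -/
def pairCore (x y : G) : Subgroup G := Balance.coreIn 2 (centralizer ({x, y} : Set G))

/-- The torus of the four-group `⟨x, y⟩ ≤ S`. -/
def torus (S : Sylow 2 G) (x y : G) : Subgroup G := ⁅pairCore x y, (S : Subgroup G)⁆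

/-- The setting. -/
structure Ctx (S : Sylow 2 G) (u : G) (E E₀ : Subgroup G) : Prop where
  jr : IsJR G
  ord : orderOf u = 2
  mem : u ∈ (S : Subgroup G)
  cent : IsJRCentralizer u E E₀

theorem IsJR.sylow_comm (jr : IsJR G) (P : Sylow 2 G) : IsMulCommutative (P : Subgroup G) :=
  (jr.elementary P).1

theorem IsJR.comm_mem (jr : IsJR G) (S : Sylow 2 G) {x y : G} (hx : x ∈ (S : Subgroup G))
    (hy : y ∈ (S : Subgroup G)) : x * y = y * x :=
  comm_Om (IsJR.sylow_comm jr S) hx hy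

theorem IsJR.sq_mem (jr : IsJR G) (S : Sylow 2 G) {x : G} (hx : x ∈ (S : Subgroup G)) :
    x * x = 1 := by
  rw [← pow_two]
  exact (jr.elementary S).2 x hx

/-- A group of elements of the shape `1, a, b, a b` in any 2-subgroup has order at most eight. -/
theorem IsJR.card_le (jr : IsJR G) {Q : Subgroup G} (hQ : IsPGroup 2 Q) : Nat.card Q ≤ 8 := by
  obtain ⟨P, hP⟩ := hQ.exists_le_sylow
  exact (Nat.le_of_dvd Nat.card_pos (Subgroup.card_dvd_of_le hP)).trans (jr.card_sylow P).le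

theorem IsJR.comm_pgroup (jr : IsJR G) {Q : Subgroup G} (hQ : IsPGroup 2 Q) {x y : G} (hx : x ∈ Q)
    (hy : y ∈ Q) : x * y = y * x :=
  pgroup_comm (IsJR.sylow_comm jr) hQ hx hy

/-- An element acting on `{a, b}` as a transposition cannot normalise a 2-group. -/
theorem IsJR.not_swap (jr : IsJR G) {Q : Subgroup G} (hQ : IsPGroup 2 Q) {d a b : G}
    (hd : d ∈ normalizer (Q : Set G)) (ha : a ∈ Q) (h1 : d * a * d⁻¹ = b) (h2 : d * b * d⁻¹ = a) :
    a = b := by
  haveI : Fact (Nat.Prime 2) := ⟨Nat.prime_two⟩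
  obtain ⟨k, m, hm, hkm⟩ := Nat.exists_eq_two_pow_mul_odd (orderOf_pos d).ne'
  have hdm : d ^ m ∈ normalizer (Q : Set G) := pow_mem hd m
  have hz : IsPGroup 2 (zpowers (d ^ m)) := by
    obtain ⟨l, -, hl⟩ := (Nat.dvd_prime_pow Nat.prime_two).1
      (show orderOf (d ^ m) ∣ 2 ^ k from orderOf_dvd_of_pow_eq_one (by
        rw [← pow_mul, mul_comm m, ← hkm, pow_orderOf_eq_one]))
    exact IsPGroup.of_card (n := l) (by rw [Nat.card_zpowers, hl])
  have hp : IsPGroup 2 (zpowers (d ^ m) ⊔ Q : Subgroup G) :=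
    hz.to_sup_of_normal_right' hQ (zpowers_le.2 hdm)
  have hc := IsJR.comm_pgroup jr hp (mem_sup_left (mem_zpowers (d ^ m))) (mem_sup_right ha)
  have h2j : ∀ j : ℕ, d ^ (2 * j) * a = a * d ^ (2 * j) := fun j => by
    have e : Commute (d * d) a := by
      show d * d * a = a * (d * d)
      calc d * d * a = d * (d * a * d⁻¹) * d⁻¹ * (d * d) := by group
        _ = a * (d * d) := by rw [h1, h2]
    rw [pow_mul, pow_two]
    exact (e.pow_left j).eq
  obtain ⟨j, rfl⟩ := hm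
  have h3 : d * a = a * d := by
    rw [pow_succ', mul_assoc, h2j] at hc
    rw [← mul_assoc, ← mul_assoc] at hc
    exact mul_right_cancel hc
  rw [← h1, h3, mul_inv_cancel_right]

omit [Finite G] in
theorem tri_conj {E E₀ : Subgroup G} {a b r c : G} (T : Tri E E₀ a b r)
    (hE₀ : ∀ x, x ∈ E₀ ↔ c * x * c⁻¹ ∈ E₀) (hE' : ∀ e ∈ E, c⁻¹ * e * c ∈ E) :
    Tri E E₀ (c * a * c⁻¹) (c * b * c⁻¹) (c * r * c⁻¹) := by
  have hm : ∀ {x y : G}, (c * x * c⁻¹) * (c * y * c⁻¹) = c * (x * y) * c⁻¹ := fun {x y} => by group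
  have hcomm : ∀ {x y : G}, x * (c * y * c⁻¹) = (c * y * c⁻¹) * x →
      c⁻¹ * x * c * y = y * (c⁻¹ * x * c) := fun {x y} h => by
    calc c⁻¹ * x * c * y = c⁻¹ * (x * (c * y * c⁻¹)) * c := by group
      _ = c⁻¹ * ((c * y * c⁻¹) * x) * c := by rw [h]
      _ = _ := by group
  have hback : ∀ {x : G}, x ∈ E₀ → c⁻¹ * x * c ∈ E₀ := fun {x} hx => by
    rw [hE₀]; simpa [mul_assoc] using hx
  have hcases : ∀ {x : G}, (c⁻¹ * x * c = 1 ∨ c⁻¹ * x * c = a ∨ c⁻¹ * x * c = b ∨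
      c⁻¹ * x * c = a * b) →
      (x = 1 ∨ x = c * a * c⁻¹ ∨ x = c * b * c⁻¹ ∨ x = c * a * c⁻¹ * (c * b * c⁻¹)) := by
    intro x h
    have e : x = c * (c⁻¹ * x * c) * c⁻¹ := by group
    rcases h with h | h | h | h <;> rw [h] at e
    · exact Or.inl (by simpa using e)
    · exact Or.inr (Or.inl e)
    · exact Or.inr (Or.inr (Or.inl e))
    · exact Or.inr (Or.inr (Or.inr (by rw [e, hm])))
  refine ⟨?_, ?_, ?_, ?_, (hE₀ a).1 T.amem, (hE₀ b).1 T.bmem, (hE₀ r).1 T.rmem, ?_, ?_, ?_, ?_, ?_,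
    T.noOdd⟩
  · rw [Involutions.Basic.orderOf_conj_eq]; exact T.ha
  · rw [Involutions.Basic.orderOf_conj_eq]; exact T.hb
  · rw [hm, hm, T.comm]
  · exact fun h => T.ne (mul_left_cancel (mul_right_cancel h))
  · rw [show c * r * c⁻¹ * (c * b * c⁻¹) * (c * r * c⁻¹)⁻¹ = c * (r * b * r⁻¹) * c⁻¹ by group,
      T.cb]
  · rw [show c * r * c⁻¹ * (c * a * c⁻¹) * (c * r * c⁻¹)⁻¹ = c * (r * a * r⁻¹) * c⁻¹ by group,
      T.ca, hm]
  · exact T.oddCent
  · exact fun x hx h1 h2 => hcases (T.cent₀ _ (hback hx) (hcomm h1) (hcomm h2))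
  · intro x hx ⟨k, hk⟩ h1 h2
    refine hcases (T.cent _ (hE' x hx) ⟨k, ?_⟩ (hcomm h1) (hcomm h2))
    have e : c⁻¹ * x * c = c⁻¹ * x * (c⁻¹)⁻¹ := by rw [inv_inv]
    rw [e, conj_pow, hk, mul_one, mul_inv_cancel]

namespace Ctx

variable {S : Sylow 2 G} {u : G} {E E₀ : Subgroup G} (C : Ctx S u E E₀)
include C

theorem comm {x y : G} (hx : x ∈ (S : Subgroup G)) (hy : y ∈ (S : Subgroup G)) : x * y = y * x :=
  IsJR.comm_mem C.jr S hx hy

theorem sq {x : G} (hx : x ∈ (S : Subgroup G)) : x * x = 1 := IsJR.sq_mem C.jr S hx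

theorem orderOf_mem {x : G} (hx : x ∈ (S : Subgroup G)) (h1 : x ≠ 1) : orderOf x = 2 :=
  orderOf_eq_prime (by rw [pow_two]; exact C.sq hx) h1

theorem mem_cent (e : G) (he : e ∈ E) : e * u = u * e :=
  (C.cent.1.2.2.1 u (mem_zpowers u) e he).symm

theorem conf : Conf u E E₀ where
  sylow := IsJR.sylow_comm C.jr
  ord := C.ord
  mem_cent := C.mem_cent
  not_mem := fun h => by
    have h1 : u ∈ zpowers u ⊓ E := ⟨mem_zpowers u, h⟩
    rw [C.cent.1.2.2.2.1, mem_bot] at h1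
    exact ne_one_of_ord C.ord h1
  decomp := fun c hc => by
    have hmem : c ∈ zpowers u ⊔ E := by
      rw [C.cent.1.2.2.2.2]
      exact mem_centralizer_singleton_iff.2 hc
    have hle : zpowers u ≤ normalizer (E : Set G) := by
      refine zpowers_le.2 (mem_normalizer_iff.2 fun e => ⟨fun he => ?_, fun he => ?_⟩)
      · rwa [← C.mem_cent e he, mul_inv_cancel_right]
      · have h := C.mem_cent _ he
        have h2 : e = u * e * u⁻¹ := by
          rw [inv_mul_cancel_right] at h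
          calc e = u⁻¹ * (u * e) := by group
            _ = u⁻¹ * (u * (u * e * u⁻¹)) := by rw [← h]
            _ = _ := by group
        rwa [h2]
    rw [← SetLike.mem_coe, coe_mul_of_left_le_normalizer_right _ _ hle] at hmem
    obtain ⟨z, hz, e, he, rfl⟩ := hmem
    refine ⟨e, he, ?_⟩
    obtain ⟨k, rfl⟩ := mem_zpowers_iff.1 hz
    have h2 : u ^ (2 : ℤ) = 1 := by rw [zpow_two, sq_of_ord C.ord]
    rcases Int.even_or_odd' k with ⟨l, rfl | rfl⟩
    · exact Or.inl (by simp [zpow_mul, h2])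
    · exact Or.inr (by simp [zpow_add, zpow_mul, h2])
  le := C.cent.2.1
  conj₀ := fun c hc x hx => by
    have h := C.cent.2.2.1.conj_mem ⟨x, C.cent.2.1 hx⟩ (mem_subgroupOf.2 hx) ⟨c, hc⟩
    exact mem_subgroupOf.1 h
  cE := fun c hc h => by
    have h1 : c ∈ E ⊓ centralizer (E₀ : Set G) := ⟨hc, mem_centralizer_iff.2 fun x hx => (h x hx).symm⟩
    rwa [C.cent.2.2.2.2.2, mem_bot] at h1
  psl := by
    obtain ⟨K, hf, hft, hq, -, he⟩ := C.cent.2.2.2.2.1
    exact ⟨K, hf, hft, Nat.odd_iff.2 (by omega), he⟩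

/-- The four-group of `E₀` inside `S`, with an element cycling its involutions. -/
theorem exists_tri : ∃ a b r : G, Tri E E₀ a b r ∧ a ∈ (S : Subgroup G) ∧ b ∈ (S : Subgroup G) := by
  haveI : Fact (Nat.Prime 2) := ⟨Nat.prime_two⟩
  obtain ⟨a, b, r, T⟩ := C.conf.exists_tri
  have hua : a * u = u * a := C.mem_cent a (C.conf.le T.amem)
  have hub : b * u = u * b := C.mem_cent b (C.conf.le T.bmem)
  have hp : IsPGroup 2 (closure ({u, a, b} : Set G)) := closure_pgroup
    (by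
      rintro x (rfl | rfl | rfl)
      exacts [sq_of_ord C.ord, sq_of_ord T.ha, sq_of_ord T.hb])
    (by
      rintro x (rfl | rfl | rfl) y (rfl | rfl | rfl)
      exacts [rfl, hua.symm, hub.symm, hua, rfl, T.comm, hub, T.comm.symm, rfl])
  obtain ⟨P, hP⟩ := hp.exists_le_sylow
  have hle : ∀ {Q : Sylow 2 G}, u ∈ (Q : Subgroup G) →
      (Q : Subgroup G) ≤ centralizer ({u} : Set G) := fun {Q} hu x hx =>
    mem_centralizer_singleton_iff.2 (IsJR.comm_mem C.jr Q hx hu)
  obtain ⟨c, hc⟩ := MulAction.exists_smul_eq (centralizer ({u} : Set G))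
    (P.subtype (hle (hP (subset_closure (Or.inl rfl))))) (S.subtype (hle C.mem))
  have hcu : (c : G) * u = u * c := mem_centralizer_singleton_iff.1 c.2
  have hmap : ∀ x ∈ (P : Subgroup G), (c : G) * x * (c : G)⁻¹ ∈ (S : Subgroup G) := by
    intro x hx
    have hx' : x ∈ centralizer ({u} : Set G) := hle (hP (subset_closure (Or.inl rfl))) hx
    have h1 : c * (⟨x, hx'⟩ : centralizer ({u} : Set G)) * c⁻¹ ∈
        (S.subtype (hle C.mem) : Subgroup (centralizer ({u} : Set G))) := by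
      rw [← hc, Sylow.coe_subgroup_smul]
      exact Subgroup.smul_mem_pointwise_smul (a := MulAut.conj c) (⟨x, hx'⟩ : centralizer ({u} : Set G)) _
        (by rw [Sylow.coe_subtype]; exact mem_subgroupOf.2 hx)
    rw [Sylow.coe_subtype] at h1
    exact mem_subgroupOf.1 h1
  have hcu' : (c : G)⁻¹ * u = u * (c : G)⁻¹ := (Commute.inv_left (show Commute (c : G) u from hcu)).eq
  have hE₀ : ∀ x : G, x ∈ E₀ ↔ (c : G) * x * (c : G)⁻¹ ∈ E₀ := fun x =>
    ⟨fun hx => C.conf.conj_E₀ hcu hx, fun hx => by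
      have := C.conf.conj_E₀ hcu' hx
      simpa [mul_assoc] using this⟩
  have hE : ∀ e ∈ E, (c : G)⁻¹ * e * (c : G) ∈ E := fun e he => by
    have := C.conf.comm_t hcu' he
    simpa [mul_assoc] using this
  exact ⟨_, _, _, tri_conj T hE₀ hE, hmap a (hP (subset_closure (Or.inr (Or.inl rfl)))),
    hmap b (hP (subset_closure (Or.inr (Or.inr rfl))))⟩

theorem cases_S {a b r : G} (T : Tri E E₀ a b r) (ha : a ∈ (S : Subgroup G))
    (hb : b ∈ (S : Subgroup G)) {p : G} (hp : p ∈ (S : Subgroup G)) :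
    ∃ v : G, (v = 1 ∨ v = a ∨ v = b ∨ v = a * b) ∧ (p = v ∨ p = u * v) := by
  obtain ⟨e, he, hpe⟩ := C.conf.decomp p (C.comm hp C.mem)
  have heS : e ∈ (S : Subgroup G) := by
    rcases hpe with rfl | rfl
    · exact hp
    · exact ((S : Subgroup G).mul_mem_cancel_left C.mem).1 hp
  exact ⟨e, T.cent e he ⟨1, by rw [pow_one, pow_two, C.sq heS]⟩ (C.comm heS ha) (C.comm heS hb), hpe⟩

/-- An element commuting with `u`, `a`, `b` centralises `S`. -/
theorem mem_centralizer_of {a b r : G} (T : Tri E E₀ a b r) (ha : a ∈ (S : Subgroup G))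
    (hb : b ∈ (S : Subgroup G)) {d : G} (hu : d * u = u * d) (hda : d * a = a * d)
    (hdb : d * b = b * d) : d ∈ centralizer ((S : Subgroup G) : Set G) := by
  refine mem_centralizer_iff.2 fun p hp => ?_
  obtain ⟨v, hv, hpv⟩ := C.cases_S T ha hb hp
  have hdv : Commute d v := by
    rcases hv with rfl | rfl | rfl | rfl
    exacts [Commute.one_right d, hda, hdb, Commute.mul_right hda hdb]
  rcases hpv with rfl | rfl
  exacts [hdv.eq.symm, (Commute.mul_right hu hdv).eq.symm]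

/-- `S ⊓ E₀ = S ⊓ E` is the four-group. -/
theorem inf_cases {a b r : G} (T : Tri E E₀ a b r) (ha : a ∈ (S : Subgroup G))
    (hb : b ∈ (S : Subgroup G)) {p : G} (hp : p ∈ (S : Subgroup G)) (hE : p ∈ E) :
    p = 1 ∨ p = a ∨ p = b ∨ p = a * b :=
  T.cent p hE ⟨1, by rw [pow_one, pow_two, C.sq hp]⟩ (C.comm hp ha) (C.comm hp hb)

theorem mem_E₀_of_mem_E {p : G} (hp : p ∈ (S : Subgroup G)) (hE : p ∈ E) : p ∈ E₀ := by
  obtain ⟨a, b, r, T, ha, hb⟩ := C.exists_tri
  rcases C.inf_cases T ha hb hp hE with rfl | rfl | rfl | rfl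
  exacts [one_mem _, T.amem, T.bmem, mul_mem T.amem T.bmem]

end Ctx

end Cfsg.Agent.Lib.Walter.NoField
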