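import Cfsg.Agent.Lib.Walter.NoField.Local.PairNorm

/-!
# Section Z, local facts: centralisers of torus elements

For `1 ≠ x ∈ T`: `C(x) ⊓ C(a) = ⟨u,w⟩ C_O(x)` for `a ∈ ⟨u,w⟩#`, `O(C(x)) ≤ O`, and `⟨u,w⟩` is a
Sylow 2-subgroup of `C(x)`.

Owner: helper66.
-/

set_option autoImplicit false
set_option linter.unusedSectionVars false
set_option linter.style.haveILetI false

universe u

namespace Cfsg.Agent.Lib.Walter.NoField

open Subgroup Walter66

variable {G : Type u} [Group G] [Finite G]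

namespace Ctx

variable {S : Sylow 2 G} {u : G} {E E₀ : Subgroup G} (C : Ctx S u E E₀)
include C

variable {w : G} (hw : w ∈ (S : Subgroup G)) (hwE : w ∈ E₀) (hw1 : w ≠ 1)
include hw hwE hw1

theorem torus_comm_pair {x : G} (hx : x ∈ torus S u w) : x * u = u * x ∧ x * w = w * x :=
  mem_centralizer_pair.1 (pairCore_le u w (C.torus_le hw hwE hw1 hx))

/-- The case `a = u`. -/
theorem mem_pair_of_comm_u {x c : G} (hx : x ∈ torus S u w) (hx1 : x ≠ 1) (hcu : c * u = u * c)
    (hcx : c * x = x * c) : c ∈ centralizer ({u, w} : Set G) := by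
  obtain ⟨v, r, T, -⟩ := C.exists_tri_at hw hwE hw1
  have hxu := (C.torus_comm_pair hw hwE hw1 hx).1
  have hxw := (C.torus_comm_pair hw hwE hw1 hx).2
  refine mem_centralizer_pair.2 ⟨hcu, ?_⟩
  obtain ⟨e, he, hce⟩ := C.conf.decomp c hcu
  have hwu : Commute u w := C.comm C.mem hw
  suffices h : Commute e w by
    rcases hce with rfl | rfl
    exacts [h.eq, (hwu.mul_left h).eq]
  have hex : Commute e x := by
    rcases hce with rfl | rfl
    · exact hcx
    · have h1 : Commute u (u * e) := by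
        have := (show Commute (u * e) u from hcu)
        exact this.symm
      have h2 : Commute (u * (u * e)) x :=
        Commute.mul_left (show Commute u x from hxu.symm) (show Commute (u * e) x from hcx)
      rwa [← mul_assoc, C.sq C.mem, one_mul] at h2
  have hy : e * w * e⁻¹ ∈ E₀ := C.conf.conj₀ e he w hwE
  have hyx : e * w * e⁻¹ * x = x * (e * w * e⁻¹) := by
    have h := (show Commute w x from hxw.symm).map (MulAut.conj e).toMonoidHom
    have hx' : e * x * e⁻¹ = x := by rw [hex.eq, mul_inv_cancel_right]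
    simpa [hx'] using h.eq
  have h := (T.oddCent x (C.torus_le_E₀ hw hwE hw1 hx)
    (odd_orderOf_mem (C.odd_torus hw hwE hw1) hx) hx1 (e * w * e⁻¹) hy w hwE hyx hxw.symm).2
    (by rw [show e * w * e⁻¹ * (e * w * e⁻¹) = e * (w * w) * e⁻¹ by group, C.sq hw, mul_one,
      mul_inv_cancel]) (C.sq hw) (fun h => hw1 (conj_eq_one_iff.1 h)) hw1
  exact mul_inv_eq_iff_eq_mul.1 h

/-- `C(x) ⊓ C(a) ≤ C⟨u,w⟩` for `1 ≠ x ∈ T` and `a ∈ ⟨u,w⟩#`. -/
theorem mem_pair_of_comm {x c a : G} (hx : x ∈ torus S u w) (hx1 : x ≠ 1)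
    (ha : a = u ∨ a = w ∨ a = u * w) (hca : c * a = a * c) (hcx : c * x = x * c) :
    c ∈ centralizer ({u, w} : Set G) := by
  obtain ⟨σ, hσ⟩ := C.exists_pairCycle hw hwE hw1
  have key : ∀ k, k ∈ zpowers σ ⊔ (S : Subgroup G) →
      k ∈ normalizer (closure ({u, w} : Set G) : Set G) → k * a * k⁻¹ = u →
      c ∈ centralizer ({u, w} : Set G) := by
    intro k hk hkN hka
    have h1 := C.mem_pair_of_comm_u hw hwE hw1 (C.pairCycle_conj_torus hw hwE hw1 hσ hk hx)
      (fun h => hx1 (conj_eq_one_iff.1 h)) (c := k * c * k⁻¹) (by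
        have := (show Commute c a from hca).map (MulAut.conj k).toMonoidHom
        simpa [hka] using this.eq) (by
        have := (show Commute c x from hcx).map (MulAut.conj k).toMonoidHom
        simpa using this.eq)
    have h2 : ∀ y ∈ ({u, w} : Set G), y * c = c * y := by
      intro y hy
      have h3 : k * y * k⁻¹ ∈ closure ({u, w} : Set G) :=
        (mem_normalizer_iff.1 hkN y).1 (subset_closure hy)
      have h4 : k * c * k⁻¹ ∈ centralizer (closure ({u, w} : Set G) : Set G) := by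
        rwa [centralizer_closure]
      have h5 := mem_centralizer_iff.1 h4 _ h3
      calc y * c = k⁻¹ * (k * y * k⁻¹ * (k * c * k⁻¹)) * k := by group
        _ = k⁻¹ * (k * c * k⁻¹ * (k * y * k⁻¹)) * k := by rw [h5]
        _ = c * y := by group
    exact mem_centralizer_iff.2 h2
  have hσK : σ ∈ zpowers σ ⊔ (S : Subgroup G) := mem_sup_left (mem_zpowers σ)
  have hσN := C.pairCycle_mem_normalizer hw hwE hw1 hσ
  rcases ha with rfl | rfl | rfl
  · exact C.mem_pair_of_comm_u hw hwE hw1 hx hx1 hca hcx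
  · refine key (σ * σ) (mul_mem hσK hσK) (mul_mem hσN hσN) ?_
    rw [show σ * σ * a * (σ * σ)⁻¹ = σ * (σ * a * σ⁻¹) * σ⁻¹ by group, hσ.map_w,
      C.pairCycle_map_uw hw hwE hw1 hσ]
  · exact key σ hσK hσN (C.pairCycle_map_uw hw hwE hw1 hσ)

/-- `C(x) ⊓ C⟨u,w⟩ = ⟨u,w⟩ C_O(x)`. -/
theorem exists_mul_of_comm {x c : G} (hx : x ∈ torus S u w) (hx1 : x ≠ 1)
    (hc : c ∈ centralizer ({u, w} : Set G)) (hcx : c * x = x * c) :
    ∃ o ∈ pairCore u w, o * x = x * o ∧ ∃ p ∈ closure ({u, w} : Set G), c = o * p := by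
  obtain ⟨o, ho, s, hs, rfl⟩ := C.exists_mul_pairCore hw hwE hw1 hc
  obtain ⟨v, r, T, hv⟩ := C.exists_tri_at hw hwE hw1
  have hxO := C.torus_le hw hwE hw1 hx
  have hxu : Commute x u := (C.torus_comm_pair hw hwE hw1 hx).1
  have hxw : Commute x w := (C.torus_comm_pair hw hwE hw1 hx).2
  -- `s` centralises or inverts `x`
  obtain ⟨p, hp, hsp⟩ : ∃ p ∈ closure ({u, w} : Set G), s = p ∨ s = p * v := by
    have hu' : u ∈ closure ({u, w} : Set G) := subset_closure (Or.inl rfl)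
    have hw' : w ∈ closure ({u, w} : Set G) := subset_closure (Or.inr rfl)
    obtain ⟨y, hy, hsy⟩ := C.cases_S T hw hv hs
    rcases hy with h | h | h | h <;> rcases hsy with h' | h' <;> rw [h] at h'
    exacts [⟨1, one_mem _, Or.inl h'⟩, ⟨u, hu', Or.inl (by rw [h', mul_one])⟩, ⟨w, hw', Or.inl h'⟩,
      ⟨u * w, mul_mem hu' hw', Or.inl h'⟩, ⟨1, one_mem _, Or.inr (by rw [h', one_mul])⟩,
      ⟨u, hu', Or.inr h'⟩, ⟨w, hw', Or.inr h'⟩,
      ⟨u * w, mul_mem hu' hw', Or.inr (by rw [h', mul_assoc])⟩]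
  have hpx : Commute p x := by
    have h : x ∈ centralizer (closure ({u, w} : Set G) : Set G) := by
      rw [centralizer_closure]
      exact mem_centralizer_pair.2 ⟨hxu.eq, hxw.eq⟩
    exact mem_centralizer_iff.1 h p hp
  rcases hsp with rfl | rfl
  · refine ⟨o, ho, ?_, s, hp, rfl⟩
    have h := (show Commute (o * s) x from hcx).mul_left (hpx.inv_left)
    rw [mul_inv_cancel_right] at h
    exact h.eq
  · exfalso
    have hinv := C.torus_inverted hw hwE hw1 hv T.bmem (ne_one_of_ord T.hb) T.ne.symm hx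
    have h1 : o * x⁻¹ * o⁻¹ = x := by
      calc o * x⁻¹ * o⁻¹ = o * (p * (v * x * v⁻¹) * p⁻¹) * o⁻¹ := by
            rw [hinv, (hpx.inv_right).eq, mul_inv_cancel_right]
        _ = o * (p * v) * x * (o * (p * v))⁻¹ := by group
        _ = x := by rw [hcx, mul_inv_cancel_right]
    have h2 : o * x * o⁻¹ = x⁻¹ := by
      calc o * x * o⁻¹ = (o * x⁻¹ * o⁻¹)⁻¹ := by group
        _ = x⁻¹ := by rw [h1]
    exact hx1 (RankOne.Involution.eq_one_of_inverted_by_mem (odd_pairCore u w) ho hxO h2)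

/-- `O(C(x)) ≤ O`. -/
theorem coreIn_centralizer_torus_le {x : G} (hx : x ∈ torus S u w) (hx1 : x ≠ 1) :
    Balance.coreIn 2 (centralizer ({x} : Set G)) ≤ pairCore u w := by
  have hnorm : ∀ a, a * x = x * a → ∀ h ∈ Balance.coreIn 2 (centralizer ({x} : Set G)),
      a * h * a⁻¹ ∈ Balance.coreIn 2 (centralizer ({x} : Set G)) := fun a ha h hh =>
    (mem_normalizer_iff.1 (Balance.le_normalizer_coreIn _ (mem_centralizer_singleton_iff.2 ha)) h).1 hh
  have hxu := (C.torus_comm_pair hw hwE hw1 hx).1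
  have hxw := (C.torus_comm_pair hw hwE hw1 hx).2
  have hfix : ∀ a, (a = u ∨ a = w ∨ a = u * w) →
      ∀ h ∈ Balance.coreIn 2 (centralizer ({x} : Set G)), a * h * a⁻¹ = h → h ∈ pairCore u w :=
    fun a ha h hh hah => C.mem_pairCore hw hwE hw1
      (C.mem_pair_of_comm hw hwE hw1 hx hx1 ha (mul_inv_eq_iff_eq_mul.1 hah).symm
        (mem_centralizer_singleton_iff.1 (Balance.coreIn_le _ hh)))
      (odd_orderOf_mem (JRBal.odd_coreIn _) hh)
  exact RankOne.Involution.le_of_four_group (JRBal.odd_coreIn _) (C.sq C.mem) (C.sq hw)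
    (C.comm C.mem hw) (hnorm u hxu.symm) (hnorm w hxw.symm) (hfix u (Or.inl rfl))
    (hfix w (Or.inr (Or.inl rfl))) (hfix _ (Or.inr (Or.inr rfl)))

/-- `⟨u,w⟩` is a Sylow 2-subgroup of `C(x)`. -/
theorem eq_of_pgroup_centralizer_torus {x : G} (hx : x ∈ torus S u w) (hx1 : x ≠ 1)
    {Q : Subgroup G} (hQ : IsPGroup 2 Q) (hle : closure ({u, w} : Set G) ≤ Q)
    (hQx : Q ≤ centralizer ({x} : Set G)) : Q = closure ({u, w} : Set G) := by
  refine le_antisymm (fun c hc => ?_) hle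
  have hcu := IsJR.comm_pgroup C.jr hQ hc (hle (subset_closure (Or.inl rfl)))
  have hcx := mem_centralizer_singleton_iff.1 (hQx hc)
  have hcP := C.mem_pair_of_comm hw hwE hw1 hx hx1 (Or.inl rfl) hcu hcx
  obtain ⟨o, ho, -, p, hp, rfl⟩ := C.exists_mul_of_comm hw hwE hw1 hx hx1 hcP hcx
  have hoQ : o ∈ Q := (Q.mul_mem_cancel_right (hle hp)).1 hc
  obtain ⟨P, hP⟩ := hQ.exists_le_sylow
  have ho1 : o = 1 :=
    JRBal.eq_one_of_sq_odd (odd_pairCore u w) ho (IsJR.sq_mem C.jr P (hP hoQ))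
  rw [ho1, one_mul]
  exact hp

end Ctx

end Cfsg.Agent.Lib.Walter.NoField
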